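import Groth.Agent.FF30.ConstPlaces
import Groth.Agent.FF30.Degree
import Groth.Agent.FF30.Geometric

/-! Algebraic extensions of the constants of a field, no separability assumed. -/

namespace Groth.Agent.Const31

open FunFld WithZero Groth.Agent.FF30
open scoped TensorProduct IntermediateField

/-- The scalar extension: `kb ⊗ K ≅ Kb`. -/
abbrev IsScalarExt (k K kb Kb : Type*) [Field k] [Field K] [Algebra k K] [Field kb] [Algebra k kb]
    [Field Kb] [Algebra K Kb] [Algebra kb Kb] [Algebra k Kb] [IsScalarTower k K Kb]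
    [IsScalarTower k kb Kb] : Prop :=
  Function.Bijective (Algebra.TensorProduct.productMap
    (IsScalarTower.toAlgHom k kb Kb) (IsScalarTower.toAlgHom k K Kb))

section Base

variable {k K kb Kb : Type*} [Field k] [Field K] [Algebra k K] [Field kb]
  [Algebra k kb] [Field Kb] [Algebra K Kb] [Algebra kb Kb] [Algebra k Kb]
  [IsScalarTower k K Kb] [IsScalarTower k kb Kb]

theorem gen (h : IsScalarExt k K kb Kb) : Algebra.adjoin K (Set.range (algebraMap kb Kb)) = ⊤ := by
  rw [eq_top_iff]
  intro z hmem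
  clear hmem
  obtain ⟨w, rfl⟩ := h.2 z
  induction w using TensorProduct.induction_on with
  | zero => rw [map_zero]; exact zero_mem _
  | tmul a x =>
    rw [Algebra.TensorProduct.productMap_apply_tmul]
    exact mul_mem (Algebra.subset_adjoin ⟨a, rfl⟩) (Subalgebra.algebraMap_mem _ x)
  | add p q hp hq => rw [map_add]; exact add_mem hp hq

theorem exists_sum (h : IsScalarExt k K kb Kb) (z : Kb) : ∃ (n : ℕ) (a : Fin n → kb) (x : Fin n → K),
    z = ∑ i, algebraMap kb Kb (a i) * algebraMap K Kb (x i) := by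
  obtain ⟨w, rfl⟩ := h.2 z
  obtain ⟨S, hS⟩ := TensorProduct.exists_finset w
  subst hS
  refine ⟨S.card, fun i => (S.equivFin.symm i).1.1, fun i => (S.equivFin.symm i).1.2, ?_⟩
  rw [map_sum, ← Finset.sum_coe_sort S]
  refine Fintype.sum_equiv S.equivFin _ _ fun i => ?_
  simp [Algebra.TensorProduct.productMap_apply_tmul]

theorem linearIndependent_const (h : IsScalarExt k K kb Kb) {ι : Type*} {b : ι → kb}
    (hb : LinearIndependent k b) : LinearIndependent K fun i => algebraMap kb Kb (b i) := by
  classical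
  rw [linearIndependent_iff']
  intro s x hx i hi
  have h0 : ∑ i ∈ s, b i ⊗ₜ[k] x i = 0 := h.1 (by
    rw [map_sum, map_zero, ← hx]
    refine Finset.sum_congr rfl fun i _ => ?_
    rw [Algebra.TensorProduct.productMap_apply_tmul, Algebra.smul_def, mul_comm]
    rfl)
  rw [← Module.forall_dual_apply_eq_zero_iff k]
  intro φ
  have h1 := congrArg (fun w => TensorProduct.rid k kb (φ.lTensor kb w)) h0
  simp only [map_sum, LinearMap.lTensor_tmul, TensorProduct.rid_tmul, map_zero] at h1
  exact linearIndependent_iff'.mp hb s (fun i => φ (x i)) h1 i hi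

theorem linearIndependent_of_K (h : IsScalarExt k K kb Kb) {ι : Type*} {v : ι → K}
    (hv : LinearIndependent k v) : LinearIndependent kb fun i => algebraMap K Kb (v i) := by
  classical
  rw [linearIndependent_iff']
  intro s a ha i hi
  have h0 : ∑ i ∈ s, a i ⊗ₜ[k] v i = 0 := h.1 (by
    rw [map_sum, map_zero, ← ha]
    refine Finset.sum_congr rfl fun i _ => ?_
    rw [Algebra.TensorProduct.productMap_apply_tmul, Algebra.smul_def]
    rfl)
  rw [← Module.forall_dual_apply_eq_zero_iff k]
  intro φ
  have h1 := congrArg (fun w => TensorProduct.lid k K (φ.rTensor K w)) h0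
  simp only [map_sum, LinearMap.rTensor_tmul, TensorProduct.lid_tmul, map_zero] at h1
  exact linearIndependent_iff'.mp hv s (fun i => φ (a i)) h1 i hi

theorem transcendental (h : IsScalarExt k K kb Kb) {x : K} (hx : Transcendental k x) :
    Transcendental kb (algebraMap K Kb x) := by
  have h1 : LinearIndependent k fun n : ℕ => x ^ n := by
    have h := (Polynomial.basisMonomials k).linearIndependent.map' (Polynomial.aeval x).toLinearMap
      (LinearMap.ker_eq_bot.mpr (transcendental_iff_injective.mp hx))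
    simpa [Function.comp_def, Polynomial.aeval_monomial] using h
  have h2 := linearIndependent_of_K h h1
  simp only [map_pow] at h2
  rw [transcendental_iff]
  intro p hp
  rw [Polynomial.aeval_eq_sum_range] at hp
  refine Polynomial.ext fun n => ?_
  rw [Polynomial.coeff_zero]
  by_cases hn : n < p.natDegree + 1
  · exact linearIndependent_iff'.mp h2 _ (fun n => p.coeff n) hp n (Finset.mem_range.mpr hn)
  · exact Polynomial.coeff_eq_zero_of_natDegree_lt (by omega)

theorem map_mem_adjoin (x : K) {c : K} (hc : c ∈ k⟮x⟯) :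
    algebraMap K Kb c ∈ kb⟮algebraMap K Kb x⟯ := by
  have hle : k⟮x⟯.map (IsScalarTower.toAlgHom k K Kb) ≤ (kb⟮algebraMap K Kb x⟯).restrictScalars k := by
    rw [IntermediateField.adjoin_map, IntermediateField.adjoin_le_iff, Set.image_singleton,
      Set.singleton_subset_iff]
    exact IntermediateField.mem_adjoin_simple_self kb _
  exact hle ⟨c, hc, rfl⟩

theorem finiteDimensional_adjoin (h : IsScalarExt k K kb Kb) (x : K) [FiniteDimensional k⟮x⟯ K] :
    FiniteDimensional kb⟮algebraMap K Kb x⟯ Kb := by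
  set x' := algebraMap K Kb x
  let v := Module.finBasis k⟮x⟯ K
  set W := Submodule.span kb⟮x'⟯ (Set.range fun i => algebraMap K Kb (v i))
  suffices hW : W = ⊤ from Module.finite_def.mpr (hW ▸ Submodule.fg_span (Set.finite_range _))
  refine Submodule.eq_top_iff'.mpr fun z => ?_
  obtain ⟨w, rfl⟩ := h.2 z
  induction w using TensorProduct.induction_on with
  | zero => simp
  | tmul a y =>
    rw [Algebra.TensorProduct.productMap_apply_tmul, IsScalarTower.toAlgHom_apply,
      IsScalarTower.toAlgHom_apply, ← v.sum_repr y, map_sum, Finset.mul_sum]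
    refine sum_mem fun i _ => ?_
    have : algebraMap kb Kb a * algebraMap K Kb (v.repr y i • v i) =
        ((⟨algebraMap kb Kb a, algebraMap_mem _ a⟩ : kb⟮x'⟯) *
          ⟨_, map_mem_adjoin (kb := kb) x (v.repr y i).2⟩) • algebraMap K Kb (v i) := by
      change algebraMap kb Kb a * algebraMap K Kb ((v.repr y i : K) * v i) =
        (algebraMap kb Kb a * algebraMap K Kb (v.repr y i : K)) * algebraMap K Kb (v i)
      rw [map_mul, mul_assoc]
    rw [this]
    exact Submodule.smul_mem _ _ (Submodule.subset_span ⟨i, rfl⟩)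
  | add p q hp hq => rw [map_add]; exact add_mem hp hq

theorem ff (h : IsScalarExt k K kb Kb) (hK : FF k K) : FF kb Kb := by
  obtain ⟨x, hx, hfin⟩ := hK
  exact ⟨algebraMap K Kb x, transcendental h hx, finiteDimensional_adjoin h x⟩

theorem exists_below (h : IsScalarExt k K kb Kb) (hK : FF k K) (Q : Place kb Kb) :
    ∃ P : Place k K, Below Q P := by
  let V := Q.O.comap (algebraMap K Kb)
  have hk : ∀ c : k, algebraMap k K c ∈ V := fun c => by
    change Q.1 (algebraMap K Kb (algebraMap k K c)) ≤ 1
    rw [← IsScalarTower.algebraMap_apply, IsScalarTower.algebraMap_apply k kb Kb]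
    exact Q.2.1 _
  have hV : V ≠ ⊤ := by
    intro htop
    have hall : ∀ x : K, Q.1 (algebraMap K Kb x) ≤ 1 := fun x => by
      have : x ∈ V := htop ▸ trivial
      exact this
    have hz : ∀ z : Kb, Q.1 z ≤ 1 := by
      intro z
      have hz : z ∈ Algebra.adjoin K (Set.range (algebraMap kb Kb)) := gen h ▸ Algebra.mem_top
      induction hz using Algebra.adjoin_induction with
      | mem x hx => obtain ⟨a, rfl⟩ := hx; exact Q.2.1 a
      | algebraMap x => exact hall x
      | add a b _ _ ha hb => exact (Q.1.map_add a b).trans (max_le ha hb)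
      | mul a b _ _ ha hb => rw [map_mul]; exact mul_le_one' ha hb
    obtain ⟨v, hv⟩ := Q.2.2 (exp 1)
    have := hz v
    rw [hv, ← exp_zero, exp_le_exp] at this
    omega
  obtain ⟨P, hP⟩ := hK.exists_place V hk hV
  refine ⟨P, fun x => ?_⟩
  have : x ∈ P.O ↔ x ∈ V := by rw [hP]
  exact this.symm

theorem finite_fibre (h : IsScalarExt k K kb Kb) (hK : FF k K) (P : Place k K) :
    {Q : Place kb Kb | Below Q P}.Finite := by
  obtain ⟨t, ht0, ht⟩ := exists_uniformizer P
  refine ((ff h hK).zeros_finite (algebraMap K Kb t)).subset fun Q hQ => ?_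
  refine (val_lt_one_iff Q (by simpa using ht0)).mp ((hQ.lt_iff t).mpr ?_)
  rw [ht, ← exp_zero, exp_lt_exp]
  omega

theorem exists_over (h : IsScalarExt k K kb Kb) (hK : FF k K) (P : Place k K) :
    ∃ Q : Place kb Kb, Below Q P := by
  obtain ⟨x, hx, hxP⟩ := hK.exists_only_zero P
  have hx0 : x ≠ 0 := fun h => by rw [h, ord_zero] at hx; omega
  obtain ⟨Q, hQ⟩ := (ff h hK).exists_place_pos (transcendental h (transcendental_of_ord_ne_zero P hx.ne'))
  obtain ⟨P', hP'⟩ := exists_below h hK Q
  have h1 : P'.1 x < 1 := (hP'.lt_iff x).mp ((val_lt_one_iff Q (by simpa using hx0)).mpr hQ)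
  have : P' = P := by
    by_contra hne
    have := hxP P' hne
    rw [val_lt_one_iff P' hx0] at h1
    omega
  exact ⟨Q, this ▸ hP'⟩

omit [Algebra k kb] [Algebra k Kb] [IsScalarTower k K Kb] [IsScalarTower k kb Kb] in
/-- A power relation between values gives the restriction. -/
theorem below_of_pow {Q : Place kb Kb} {P : Place k K} {e : ℕ} (he : 0 < e)
    (hz : ∀ z : K, Q.1 (algebraMap K Kb z) = P.1 z ^ e) : Below Q P := fun x => by
  rw [hz, pow_le_one_iff_of_nonneg zero_le he.ne']

theorem pos_of_pow (h : IsScalarExt k K kb Kb) {Q : Place kb Kb} {P : Place k K} {e : ℕ}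
    (hz : ∀ z : K, Q.1 (algebraMap K Kb z) = P.1 z ^ e) : 0 < e := by
  by_contra he
  obtain rfl : e = 0 := by omega
  have hall : ∀ z : Kb, Q.1 z ≤ 1 := by
    intro z
    have hz' : z ∈ Algebra.adjoin K (Set.range (algebraMap kb Kb)) := gen h ▸ Algebra.mem_top
    induction hz' using Algebra.adjoin_induction with
    | mem x hx => obtain ⟨a, rfl⟩ := hx; exact Q.2.1 a
    | algebraMap x => rw [hz, pow_zero]
    | add a b _ _ ha hb => exact (Q.1.map_add a b).trans (max_le ha hb)
    | mul a b _ _ ha hb => rw [map_mul]; exact mul_le_one' ha hb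
  obtain ⟨v, hv⟩ := Q.2.2 (exp 1)
  have := hall v
  rw [hv, ← exp_zero, exp_le_exp] at this
  omega

omit [Algebra k kb] [Algebra k Kb] [IsScalarTower k K Kb] [IsScalarTower k kb Kb] in
/-- Below means values are a power. -/
theorem exists_pow_of_below {Q : Place kb Kb} {P : Place k K} (hQ : Below Q P) :
    ∃ e : ℕ, 0 < e ∧ ∀ z : K, Q.1 (algebraMap K Kb z) = P.1 z ^ e := by
  obtain ⟨t, ht0, ht⟩ := exists_uniformizer P
  have ht0' : algebraMap K Kb t ≠ 0 := by simpa using ht0
  have hpos : 0 < Q.ord (algebraMap K Kb t) :=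
    (val_lt_one_iff Q ht0').mp ((hQ.lt_iff t).mpr (by rw [ht, ← exp_zero, exp_lt_exp]; omega))
  obtain ⟨e, he⟩ := Int.eq_ofNat_of_zero_le hpos.le
  refine ⟨e, by omega, fun z => ?_⟩
  rcases eq_or_ne z 0 with rfl | hz
  · rw [map_zero, map_zero, map_zero, zero_pow]; omega
  have htn : t ^ P.ord z ≠ 0 := zpow_ne_zero _ ht0
  set u := z / t ^ P.ord z with hu_def
  have htord : P.ord t = 1 := by rw [ord_eq_of_val_eq P ht, neg_neg]
  have hu : P.1 u = 1 := by
    rw [val_eq_one_iff P (div_ne_zero hz htn), ord_div P hz htn, ord_zpow, htord]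
    ring
  have hu' : Q.1 (algebraMap K Kb u) = 1 := by
    refine le_antisymm ((hQ u).mpr hu.le) (not_lt.1 fun h => ?_)
    exact absurd ((hQ.lt_iff u).mp h) (by rw [hu]; exact lt_irrefl _)
  have hzu : z = u * t ^ P.ord z := by rw [hu_def, div_mul_cancel₀ _ htn]
  conv_lhs => rw [hzu, map_mul, map_zpow₀, map_mul, map_zpow₀, hu', one_mul, val_eq Q ht0', he]
  rw [val_eq P hz, ← exp_nsmul, ← exp_zsmul]
  congr 1
  simp only [smul_eq_mul, nsmul_eq_mul]
  ring

end Base

section Tower

variable {k K k' K' kb Kb : Type*} [Field k] [Field K] [Algebra k K] [Field k'] [Algebra k k']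
  [Field K'] [Algebra K K'] [Algebra k' K'] [Algebra k K'] [IsScalarTower k K K'] [IsScalarTower k k' K']
  [Field kb] [Algebra k kb] [Field Kb] [Algebra K Kb] [Algebra kb Kb] [Algebra k Kb]
  [IsScalarTower k K Kb] [IsScalarTower k kb Kb]

/-- An intermediate scalar extension embeds in a larger one. -/
theorem exists_hom (h : IsScalarExt k K k' K') (i : k' →ₐ[k] kb) :
    ∃ j : K' →+* Kb, (∀ a, j (algebraMap k' K' a) = algebraMap kb Kb (i a)) ∧
      ∀ x, j (algebraMap K K' x) = algebraMap K Kb x := by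
  let e := AlgEquiv.ofBijective _ h
  let ψ := (Algebra.TensorProduct.productMap ((IsScalarTower.toAlgHom k kb Kb).comp i)
    (IsScalarTower.toAlgHom k K Kb)).comp e.symm.toAlgHom
  refine ⟨ψ.toRingHom, fun a => ?_, fun x => ?_⟩
  · have h1 : e.symm (algebraMap k' K' a) = a ⊗ₜ[k] (1 : K) := by
      rw [AlgEquiv.symm_apply_eq]; simp [e]
    change ψ (algebraMap k' K' a) = _
    simp [ψ, h1]
  · have h1 : e.symm (algebraMap K K' x) = (1 : k') ⊗ₜ[k] x := by
      rw [AlgEquiv.symm_apply_eq]; simp [e]
    change ψ (algebraMap K K' x) = _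
    simp [ψ, h1]

variable [Algebra k' kb] [IsScalarTower k k' kb] [Algebra K' Kb] [IsScalarTower K K' Kb]
  [Algebra k' Kb] [IsScalarTower k' kb Kb] [IsScalarTower k' K' Kb]

/-- The larger extension is a scalar extension of the intermediate one. -/
theorem scalarExt_tower (h : IsScalarExt k K k' K') (hb : IsScalarExt k K kb Kb) :
    IsScalarExt k' K' kb Kb := by
  let g := Algebra.TensorProduct.productMap (IsScalarTower.toAlgHom k' kb Kb) (IsScalarTower.toAlgHom k' K' Kb)
  let ψ : kb ⊗[k] K →ₐ[k] kb ⊗[k'] K' :=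
    Algebra.TensorProduct.productMap (Algebra.TensorProduct.includeLeft (R := k') (S := k))
      (((Algebra.TensorProduct.includeRight (R := k') (A := kb)).restrictScalars k).comp
        (IsScalarTower.toAlgHom k K K'))
  have hcomp : ∀ w, g (ψ w) = Algebra.TensorProduct.productMap
      (IsScalarTower.toAlgHom k kb Kb) (IsScalarTower.toAlgHom k K Kb) w := by
    intro w
    induction w using TensorProduct.induction_on with
    | zero => simp
    | tmul a x =>
      simp [g, ψ, ← IsScalarTower.algebraMap_apply K K' Kb]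
    | add p q hp hq => simp only [map_add, hp, hq]
  have hψ : Function.Surjective ψ := by
    intro w
    induction w using TensorProduct.induction_on with
    | zero => exact ⟨0, map_zero _⟩
    | tmul a z =>
      obtain ⟨n, c, y, rfl⟩ := exists_sum h z
      refine ⟨∑ i, (c i • a) ⊗ₜ[k] y i, ?_⟩
      rw [TensorProduct.tmul_sum, map_sum]
      refine Finset.sum_congr rfl fun i _ => ?_
      rw [← Algebra.smul_def, TensorProduct.tmul_smul]
      simp [ψ, TensorProduct.smul_tmul']
    | add p q hp hq =>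
      obtain ⟨a, rfl⟩ := hp; obtain ⟨b, rfl⟩ := hq; exact ⟨a + b, map_add _ _ _⟩
  refine ⟨fun a b hab => ?_, fun z => ?_⟩
  · obtain ⟨a, rfl⟩ := hψ a
    obtain ⟨b, rfl⟩ := hψ b
    exact congrArg ψ (hb.1 (by rw [← hcomp, ← hcomp]; exact hab))
  · obtain ⟨w, rfl⟩ := hb.2 z
    exact ⟨ψ w, hcomp w⟩

end Tower

universe u v w

/-- A geometric field extends to any algebraic field of constants. -/
theorem exists_scalarExt {k : Type u} {K : Type v} [Field k] [Field K] [Algebra k K]
    (hg : IsGeometric k K) (kb : Type u) [Field kb] [Algebra k kb] [Algebra.IsAlgebraic k kb] :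
    ∃ (Kb : Type v) (_ : Field Kb) (_ : Algebra K Kb) (_ : Algebra kb Kb) (_ : Algebra k Kb)
      (_ : IsScalarTower k K Kb) (_ : IsScalarTower k kb Kb), IsScalarExt k K kb Kb := by
  let Ω := AlgebraicClosure K
  let ι : kb →ₐ[k] Ω := IsAlgClosed.lift
  let Kb : IntermediateField K Ω := IntermediateField.adjoin K (Set.range ι)
  let g : kb →+* Kb := (ι : kb →+* Ω).codRestrict Kb fun a =>
    IntermediateField.subset_adjoin _ _ ⟨a, rfl⟩
  let _ : Algebra kb Kb := g.toAlgebra
  have : IsScalarTower k kb Kb := IsScalarTower.of_algebraMap_eq fun c =>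
    Subtype.ext ((ι.commutes c).symm.trans rfl)
  refine ⟨Kb, inferInstance, inferInstance, inferInstance, inferInstance, inferInstance, inferInstance, ?_, ?_⟩
  · rw [injective_iff_map_eq_zero]
    intro w hw
    obtain ⟨S, rfl⟩ := TensorProduct.exists_finset w
    classical
    let E : IntermediateField k kb := IntermediateField.adjoin k ((S.image Prod.fst : Finset kb) : Set kb)
    have : FiniteDimensional k E := IntermediateField.finiteDimensional_adjoin
      fun z _ => Algebra.IsIntegral.isIntegral z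
    let ν : E ⊗[k] K →ₐ[k] kb ⊗[k] K := Algebra.TensorProduct.map E.val (AlgHom.id k K)
    let φ := (Algebra.TensorProduct.productMap (IsScalarTower.toAlgHom k kb Kb)
      (IsScalarTower.toAlgHom k K Kb)).comp ν
    have hinj : Function.Injective φ := by
      have hf := hg E inferInstance
      let _ : Field (E ⊗[k] K) := hf.toField
      exact φ.toRingHom.injective
    let w₀ : E ⊗[k] K := ∑ p ∈ S.attach,
      (⟨p.1.1, IntermediateField.subset_adjoin _ _ (Finset.mem_image_of_mem Prod.fst p.2)⟩ : E) ⊗ₜ[k] p.1.2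
    have hw₀ : ν w₀ = ∑ p ∈ S, p.1 ⊗ₜ[k] p.2 := by
      rw [← Finset.sum_attach S fun p => p.1 ⊗ₜ[k] p.2, map_sum]
      rfl
    have h1 : φ w₀ = 0 := by rw [AlgHom.comp_apply, hw₀]; exact hw
    rw [(injective_iff_map_eq_zero φ).1 hinj w₀ h1, map_zero] at hw₀
    exact hw₀.symm
  · intro z
    have hmem : (z : Ω) ∈ Algebra.adjoin K (Set.range ι) := by
      rw [← IntermediateField.adjoin_toSubalgebra_of_isAlgebraic fun a _ =>
        Algebra.IsAlgebraic.isAlgebraic a]
      exact z.2
    suffices key : ∀ w ∈ Algebra.adjoin K (Set.range ι), ∃ t : kb ⊗[k] K,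
        ((Algebra.TensorProduct.productMap (IsScalarTower.toAlgHom k kb Kb)
          (IsScalarTower.toAlgHom k K Kb) t : Kb) : Ω) = w by
      obtain ⟨t, ht⟩ := key _ hmem
      exact ⟨t, Subtype.ext ht⟩
    intro w hw
    induction hw using Algebra.adjoin_induction with
    | mem x hx => obtain ⟨a, rfl⟩ := hx; exact ⟨a ⊗ₜ 1, by simp; rfl⟩
    | algebraMap x => exact ⟨1 ⊗ₜ x, by simp⟩
    | add a b _ _ ha hb =>
      obtain ⟨p, rfl⟩ := ha; obtain ⟨q, rfl⟩ := hb; exact ⟨p + q, by rw [map_add]; rfl⟩
    | mul a b _ _ ha hb =>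
      obtain ⟨p, rfl⟩ := ha; obtain ⟨q, rfl⟩ := hb; exact ⟨p * q, by rw [map_mul]; rfl⟩

end Groth.Agent.Const31
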