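import Groth.Agent.Const31.FieldOfDef
import Mathlib.FieldTheory.PurelyInseparable.PerfectClosure
import Mathlib.FieldTheory.Galois.Infinite
import Mathlib.FieldTheory.Fixed
import Mathlib.RingTheory.DedekindDomain.IntegralClosure
import Mathlib.FieldTheory.RatFunc.AsPolynomial

/-! The integral functions are defined over a purely inseparable extension. -/

namespace Groth.Agent.Const31

open FunFld WithZero Groth.Agent.FF30
open scoped TensorProduct IntermediateField

universe u v

variable {k : Type u} {K : Type v} [Field k] [Field K] [Algebra k K] {kb : Type u} [Field kb]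
  [Algebra k kb] {Kb : Type v} [Field Kb] [Algebra K Kb] [Algebra kb Kb] [Algebra k Kb]
  [IsScalarTower k K Kb] [IsScalarTower k kb Kb]

/-- `z` is integral over `kb[x]`. -/
abbrev IsFinReg (kb : Type*) [Field kb] {Kb : Type*} [Field Kb] [Algebra kb Kb] (x z : Kb) : Prop :=
  (Polynomial.aeval x : Polynomial kb →ₐ[kb] Kb).toRingHom.IsIntegralElem z

theorem isFinReg_combination {x : Kb} {ι : Type*} (s : Finset ι) (c : ι → kb) (z : ι → Kb)
    (hz : ∀ i ∈ s, IsFinReg kb x (z i)) : IsFinReg kb x (∑ i ∈ s, algebraMap kb Kb (c i) * z i) := by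
  let _ : Algebra (Polynomial kb) Kb := (Polynomial.aeval x : Polynomial kb →ₐ[kb] Kb).toRingHom.toAlgebra
  have hc : ∀ a : kb, IsIntegral (Polynomial kb) (algebraMap kb Kb a) := fun a => by
    have : algebraMap kb Kb a = algebraMap (Polynomial kb) Kb (Polynomial.C a) := by
      change _ = (Polynomial.aeval x) (Polynomial.C a)
      rw [Polynomial.aeval_C]
    rw [this]
    exact isIntegral_algebraMap
  exact IsIntegral.sum _ fun i hi => (hc (c i)).mul (hz i hi)

theorem isFinReg_map (σ : Kb →+* Kb) (s : kb →+* kb) {x z : Kb} (hx : σ x = x)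
    (hs : ∀ a, σ (algebraMap kb Kb a) = algebraMap kb Kb (s a)) (hz : IsFinReg kb x z) :
    IsFinReg kb x (σ z) := by
  obtain ⟨p, hp, hpz⟩ := hz
  refine ⟨p.map (Polynomial.mapRingHom s), hp.map _, ?_⟩
  rw [Polynomial.eval₂_map]
  have hcomp : ((Polynomial.aeval x : Polynomial kb →ₐ[kb] Kb).toRingHom.comp (Polynomial.mapRingHom s)) =
      σ.comp (Polynomial.aeval x : Polynomial kb →ₐ[kb] Kb).toRingHom := by
    refine Polynomial.ringHom_ext (fun a => ?_) ?_
    · simp [hs]
    · simp [hx]
  rw [hcomp]
  change Polynomial.eval₂ _ (σ z) p = 0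
  rw [← Polynomial.hom_eval₂, hpz, map_zero]

omit [Algebra k kb] [Algebra k Kb] [IsScalarTower k K Kb] [IsScalarTower k kb Kb] in
/-- Automorphisms separate independent elements. -/
theorem exists_dual_family {kp : Type u} [Field kp] [Algebra kp kb] [IsGalois kp kb] {n : ℕ}
    {c : Fin n → kb} (hc : LinearIndependent kp c) (i : Fin n) :
    ∃ D : (kb ≃ₐ[kp] kb) →₀ kb, ∀ l, D.sum (fun s a => a * s (c l)) = if l = i then 1 else 0 := by
  classical
  let G := kb ≃ₐ[kp] kb
  have hfix : FixedPoints.subfield G kb = (algebraMap kp kb).fieldRange := by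
    ext a
    exact ⟨fun h => (InfiniteGalois.mem_range_algebraMap_iff_fixed a).2 fun s => h s,
      fun ⟨b, hb⟩ s => by rw [← hb]; exact s.commutes b⟩
  have hinj : Function.Injective c := hc.injective
  have hset : LinearIndepOn (FixedPoints.subfield G kb) id ((Finset.univ.image c : Finset kb) : Set kb) := by
    rw [Finset.coe_image, Finset.coe_univ, Set.image_univ]
    refine (linearIndepOn_id_range_iff hinj).2 ?_
    rw [Fintype.linearIndependent_iff] at hc ⊢
    intro g hg l
    have hmem : ∀ l, ∃ b : kp, algebraMap kp kb b = g l := fun l => by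
      exact (hfix.le (g l).2)
    choose b hb using hmem
    have h0 := hc b (by
      rw [← hg]
      exact Finset.sum_congr rfl fun l _ => by rw [Algebra.smul_def, hb]; rfl)
    exact Subtype.ext (by rw [← hb l, h0 l, map_zero]; rfl)
  have hli : LinearIndependent kb fun l : Fin n => MulAction.toFun G kb (c l) := by
    have := FixedPoints.linearIndependent_smul_of_linearIndependent G kb hset
    refine LinearIndependent.comp (ι := ((Finset.univ.image c : Finset kb) : Set kb)) this
      (fun l : Fin n => ⟨c l, by simp⟩) fun a b hab => hinj (congrArg Subtype.val hab)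
  have htop : Submodule.span kb (Set.range fun s : G => fun l => s (c l)) = ⊤ := by
    by_contra hne
    obtain ⟨f, hf0, hker⟩ := Submodule.exists_le_ker_of_lt_top _ (lt_top_iff_ne_top.2 hne)
    refine hf0 (LinearMap.pi_ext' fun l => LinearMap.ext_ring ?_)
    have h0 : ∑ l, f (Pi.single l 1) • MulAction.toFun G kb (c l) = 0 := by
      funext s
      have h1 : f (fun l => s (c l)) = 0 := hker (Submodule.subset_span ⟨s, rfl⟩)
      rw [pi_eq_sum_univ' (fun l => s (c l)), map_sum] at h1
      simp only [Finset.sum_apply, Pi.smul_apply, Pi.zero_apply]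
      rw [← h1]
      refine Finset.sum_congr rfl fun l _ => ?_
      rw [map_smul, smul_eq_mul, smul_eq_mul, mul_comm]
      rfl
    simpa using Fintype.linearIndependent_iff.1 hli _ h0 l
  have hmem : (Pi.single i 1 : Fin n → kb) ∈ Submodule.span kb (Set.range fun s : G => fun l => s (c l)) :=
    htop ▸ Submodule.mem_top
  obtain ⟨D, hD⟩ := Finsupp.mem_span_range_iff_exists_finsupp.1 hmem
  refine ⟨D, fun l => ?_⟩
  have h := congrFun hD l
  rw [Finsupp.sum, Finset.sum_apply, Pi.single_apply] at h
  exact h

/-- Coordinates of an integral function over a field of constants with Galois closure are integral. -/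
theorem isFinReg_coord (h : IsScalarExt k K kb Kb) (kp : IntermediateField k kb) [IsGalois kp kb]
    (x : K) {n : ℕ} {c : Fin n → kb} (hc : LinearIndependent kp c) {b : Fin n → Kb}
    (hb : ∀ i, b i ∈ Algebra.adjoin K (algebraMap kb Kb '' (kp : Set kb)))
    (hz : IsFinReg kb (algebraMap K Kb x) (∑ i, algebraMap kb Kb (c i) * b i)) (i : Fin n) :
    IsFinReg kb (algebraMap K Kb x) (b i) := by
  classical
  obtain ⟨D, hD⟩ := exists_dual_family hc i
  choose σ hσc hσK using fun s : kb ≃ₐ[kp] kb => exists_hom (kb := kb) (Kb := Kb) h (s.toAlgHom.restrictScalars k)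
  have hfix : ∀ s, ∀ w ∈ Algebra.adjoin K (algebraMap kb Kb '' (kp : Set kb)), σ s w = w := by
    intro s w hw
    induction hw using Algebra.adjoin_induction with
    | mem y hy =>
      obtain ⟨a, ha, rfl⟩ := hy
      rw [hσc]
      exact congrArg _ (s.commutes (⟨a, ha⟩ : kp))
    | algebraMap y => exact hσK s y
    | add y y' _ _ hy hy' => rw [map_add, hy, hy']
    | mul y y' _ _ hy hy' => rw [map_mul, hy, hy']
  set z := ∑ i, algebraMap kb Kb (c i) * b i with hzdef
  have key : b i = ∑ s ∈ D.support, algebraMap kb Kb (D s) * σ s z := by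
    have h1 : ∀ s, σ s z = ∑ l, algebraMap kb Kb (s (c l)) * b l := fun s => by
      rw [hzdef, map_sum]
      refine Finset.sum_congr rfl fun l _ => ?_
      rw [map_mul, hσc, hfix s _ (hb l)]
      rfl
    simp only [h1, Finset.mul_sum]
    rw [Finset.sum_comm]
    simp only [← mul_assoc, ← map_mul, ← Finset.sum_mul, ← map_sum]
    have h2 : ∀ l, ∑ s ∈ D.support, D s * s (c l) = if l = i then 1 else 0 := hD
    simp only [h2]
    rw [Finset.sum_eq_single i (fun l _ hl => by rw [if_neg hl, map_zero, zero_mul]) (by simp),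
      if_pos rfl, map_one, one_mul]
  rw [key]
  exact isFinReg_combination _ _ _ fun s _ => isFinReg_map (σ s) (s : kb →+* kb) (hσK s x) (hσc s) hz

variable [IsAlgClosed kb] [Algebra.IsAlgebraic k kb]

/-- An integral function is a combination of integral functions defined over the perfect closure. -/
theorem exists_perfect_parts (h : IsScalarExt k K kb Kb) (x : K) {z : Kb}
    (hz : IsFinReg kb (algebraMap K Kb x) z) :
    ∃ T : Finset kb, (T : Set kb) ⊆ (perfectClosure k kb : Set kb) ∧
      z ∈ Submodule.span kb {b : Kb | b ∈ Algebra.adjoin K (algebraMap kb Kb '' (T : Set kb)) ∧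
        IsFinReg kb (algebraMap K Kb x) b} := by
  classical
  set kp := perfectClosure k kb
  have : Algebra.IsAlgebraic kp kb := Algebra.IsAlgebraic.tower_top (K := k) kp
  have : PerfectField kp := inferInstance
  have : IsAlgClosure kp kb := ⟨inferInstance, inferInstance⟩
  have : IsGalois kp kb := IsGalois.mk
  obtain ⟨N, a, y, rfl⟩ := exists_sum h z
  set E := Submodule.span kp (Set.range a)
  have : Module.Finite kp E := Module.Finite.span_of_finite kp (Set.finite_range a)
  let c := Module.finBasis kp E
  set m : Fin N → Fin (Module.finrank kp E) → kp := fun l i =>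
    c.repr ⟨a l, Submodule.subset_span ⟨l, rfl⟩⟩ i
  have ha : ∀ l, a l = ∑ i, (m l i : kb) * (c i : kb) := fun l => by
    have h1 := congrArg (fun w : E => (w : kb)) (c.sum_repr ⟨a l, Submodule.subset_span ⟨l, rfl⟩⟩)
    simp only [Submodule.coe_sum, Submodule.coe_smul] at h1
    exact h1.symm
  set T : Finset kb := Finset.univ.image fun p : Fin N × Fin (Module.finrank kp E) => (m p.1 p.2 : kb)
  have hTkp : (T : Set kb) ⊆ (kp : Set kb) := by
    intro t ht
    simp only [T, Finset.coe_image, Finset.coe_univ, Set.image_univ] at ht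
    obtain ⟨p, rfl⟩ := ht
    exact (m p.1 p.2).2
  set b : Fin (Module.finrank kp E) → Kb := fun i =>
    ∑ l, algebraMap kb Kb (m l i : kb) * algebraMap K Kb (y l)
  have hbT : ∀ i, b i ∈ Algebra.adjoin K (algebraMap kb Kb '' (T : Set kb)) := fun i =>
    Subalgebra.sum_mem _ fun l _ => mul_mem
      (Algebra.subset_adjoin ⟨_, Finset.mem_image.2 ⟨(l, i), Finset.mem_univ _, rfl⟩, rfl⟩)
      (Subalgebra.algebraMap_mem _ _)
  have heq : ∑ l, algebraMap kb Kb (a l) * algebraMap K Kb (y l) = ∑ i, algebraMap kb Kb (c i : kb) * b i := by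
    simp only [b, Finset.mul_sum, ha, map_sum, map_mul, Finset.sum_mul]
    rw [Finset.sum_comm]
    exact Finset.sum_congr rfl fun i _ => Finset.sum_congr rfl fun l _ => by ring
  rw [heq] at hz ⊢
  have hc : LinearIndependent kp fun i => (c i : kb) :=
    c.linearIndependent.map' E.subtype (Submodule.ker_subtype _)
  refine ⟨T, hTkp, Submodule.sum_mem _ fun i _ => ?_⟩
  rw [← Algebra.smul_def]
  exact Submodule.smul_mem _ _ (Submodule.subset_span ⟨hbT i,
    isFinReg_coord h kp x hc (fun i => Algebra.adjoin_mono (Set.image_mono hTkp) (hbT i)) hz i⟩)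

omit [Algebra.IsAlgebraic k kb] [IsAlgClosed kb] in
/-- Separability is preserved. -/
theorem isSeparable_adjoin (h : IsScalarExt k K kb Kb) (x : K) [Algebra.IsSeparable k⟮x⟯ K] :
    Algebra.IsSeparable kb⟮algebraMap K Kb x⟯ Kb := by
  set F := kb⟮algebraMap K Kb x⟯
  let g : k⟮x⟯ →+* F := ((algebraMap K Kb).comp (algebraMap k⟮x⟯ K)).codRestrict F fun c => map_mem_adjoin x c.2
  let _ : Algebra k⟮x⟯ F := g.toAlgebra
  have : IsScalarTower k⟮x⟯ F Kb := ⟨fun a b c => by
    change (algebraMap K Kb (a : K) * (b : Kb)) * c = (a : K) • ((b : Kb) * c)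
    rw [Algebra.smul_def, mul_assoc]⟩
  let φ : K →ₐ[k⟮x⟯] Kb := { algebraMap K Kb with commutes' := fun _ => rfl }
  have hy : ∀ y : K, IsSeparable F (algebraMap K Kb y) := fun y => by
    have h1 : IsSeparable k⟮x⟯ (φ y) := by
      rw [IsSeparable, minpoly.algHom_eq φ φ.injective]
      exact Algebra.IsSeparable.isSeparable _ y
    exact IsSeparable.tower_top F h1
  have htop : IntermediateField.adjoin F (Set.range (algebraMap K Kb)) = ⊤ := by
    rw [eq_top_iff]
    intro z hzt
    clear hzt
    obtain ⟨n, a, y, rfl⟩ := exists_sum h z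
    refine sum_mem fun i _ => mul_mem ?_ (IntermediateField.subset_adjoin _ _ ⟨y i, rfl⟩)
    exact IntermediateField.algebraMap_mem _ (⟨algebraMap kb Kb (a i), algebraMap_mem _ (a i)⟩ : F)
  have : Algebra.IsSeparable F (IntermediateField.adjoin F (Set.range (algebraMap K Kb))) :=
    (IntermediateField.isSeparable_adjoin_iff_isSeparable F Kb).2 fun w ⟨y, hy'⟩ => hy' ▸ hy y
  rw [htop] at this
  exact Algebra.IsSeparable.of_algHom _ _ IntermediateField.topEquiv.symm.toAlgHom

/-- All integral functions come from a finite purely inseparable extension. -/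
theorem exists_def_field (h : IsScalarExt k K kb Kb) {x : K} (hx : Transcendental k x)
    [FiniteDimensional k⟮x⟯ K] [Algebra.IsSeparable k⟮x⟯ K] :
    ∃ T : Finset kb, (T : Set kb) ⊆ (perfectClosure k kb : Set kb) ∧ ∀ z : Kb,
      IsFinReg kb (algebraMap K Kb x) z → z ∈ Submodule.span kb
        {b : Kb | b ∈ Algebra.adjoin K (algebraMap kb Kb '' (T : Set kb)) ∧
          IsFinReg kb (algebraMap K Kb x) b} := by
  classical
  set x' := algebraMap K Kb x with hx'
  have htr : Transcendental kb x' := transcendental h hx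
  have := finiteDimensional_adjoin h x
  have hsepF := isSeparable_adjoin h x
  let e := RatFunc.algEquivOfTranscendental x' htr
  let ψ : RatFunc kb →ₐ[kb] Kb := kb⟮x'⟯.val.comp e.toAlgHom
  let _ : Algebra (RatFunc kb) Kb := ψ.toRingHom.toAlgebra
  let _ : Algebra (Polynomial kb) Kb := (Polynomial.aeval x' : Polynomial kb →ₐ[kb] Kb).toRingHom.toAlgebra
  have : IsScalarTower (Polynomial kb) (RatFunc kb) Kb := IsScalarTower.of_algebraMap_eq fun p => by
    change Polynomial.aeval x' p = ((e (algebraMap _ _ p) : kb⟮x'⟯) : Kb)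
    rw [RatFunc.algEquivOfTranscendental_algebraMap]
    exact (Polynomial.aeval_algHom_apply kb⟮x'⟯.val (IntermediateField.AdjoinSimple.gen kb x') p)
  have hcompat : RingHom.comp (algebraMap kb⟮x'⟯ Kb) e.toRingEquiv.toRingHom =
      RingHom.comp (RingEquiv.refl Kb).toRingHom (algebraMap (RatFunc kb) Kb) := rfl
  have : FiniteDimensional (RatFunc kb) Kb := Module.finite_of_finrank_pos (by
    rw [Algebra.finrank_eq_of_equiv_equiv e.toRingEquiv (RingEquiv.refl Kb) hcompat]
    exact Module.finrank_pos)
  have : Algebra.IsSeparable (RatFunc kb) Kb :=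
    Algebra.IsSeparable.of_equiv_equiv e.symm.toRingEquiv (RingEquiv.refl Kb) (by
      ext z
      exact congrArg (fun t : kb⟮x'⟯ => (t : Kb)) (e.apply_symm_apply z))
  have hfin := IsIntegralClosure.finite (Polynomial kb) (RatFunc kb) Kb (integralClosure (Polynomial kb) Kb)
  obtain ⟨G, hG⟩ := hfin.fg_top
  choose Tg hTg hTg' using fun g : integralClosure (Polynomial kb) Kb =>
    exists_perfect_parts h x (z := (g : Kb)) g.2
  set T := G.biUnion Tg
  refine ⟨T, fun t ht => ?_, fun z hz => ?_⟩
  · obtain ⟨g, -, hg⟩ := Finset.mem_biUnion.1 ht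
    exact hTg g hg
  set B := {b : Kb | b ∈ Algebra.adjoin K (algebraMap kb Kb '' (T : Set kb)) ∧ IsFinReg kb x' b}
  -- closed under multiplication by polynomials
  have hmul : ∀ p : Polynomial kb, ∀ w ∈ Submodule.span kb B, Polynomial.aeval x' p * w ∈ Submodule.span kb B := by
    intro p w hw
    induction hw using Submodule.span_induction with
    | mem b hb =>
      induction p using Polynomial.induction_on' with
      | add p q hp hq => rw [map_add, add_mul]; exact add_mem hp hq
      | monomial n a =>
        rw [Polynomial.aeval_monomial, mul_assoc, ← Algebra.smul_def]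
        refine Submodule.smul_mem _ _ (Submodule.subset_span ⟨?_, ?_⟩)
        · exact mul_mem (pow_mem (Subalgebra.algebraMap_mem _ x) n) hb.1
        · exact IsIntegral.mul (IsIntegral.pow (by
            have : x' = algebraMap (Polynomial kb) Kb Polynomial.X := (Polynomial.aeval_X x').symm
            rw [this]; exact isIntegral_algebraMap) n) hb.2
    | zero => rw [mul_zero]; exact zero_mem _
    | add a b _ _ ha hb => rw [mul_add]; exact add_mem ha hb
    | smul c a _ ha => rw [mul_smul_comm]; exact Submodule.smul_mem _ _ ha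
  have hmem : (⟨z, hz⟩ : integralClosure (Polynomial kb) Kb) ∈ Submodule.span (Polynomial kb) (G : Set _) :=
    hG ▸ Submodule.mem_top
  obtain ⟨coef, -, hsum⟩ := Submodule.mem_span_finset.1 hmem
  have hz' : z = ∑ g ∈ G, Polynomial.aeval x' (coef g) * (g : Kb) := by
    have := congrArg (fun w : integralClosure (Polynomial kb) Kb => (w : Kb)) hsum
    rw [AddSubmonoidClass.coe_finsetSum] at this
    refine this.symm.trans (Finset.sum_congr rfl fun g _ => ?_)
    rw [Subalgebra.coe_smul, Algebra.smul_def]
    rfl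
  rw [hz']
  refine Submodule.sum_mem _ fun g hg => hmul _ _ (Submodule.span_mono ?_ (hTg' g))
  exact fun b hb => ⟨Algebra.adjoin_mono (Set.image_mono
    (Finset.coe_subset.2 (Finset.subset_biUnion_of_mem Tg hg))) hb.1, hb.2⟩

end Groth.Agent.Const31
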