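import Groth.Agent.Const31.Fibre
import Groth.Agent.FF30.Approx

/-! Places over a nonsingular place and embeddings of its residue field. -/

namespace Groth.Agent.Const31

open FunFld WithZero Groth.Agent.FF30
open scoped TensorProduct IntermediateField

universe u v

variable {k : Type u} {K : Type v} {kb : Type u} {Kb : Type v} [Field k] [Field K] [Algebra k K]
  [Field kb] [Algebra k kb] [Field Kb] [Algebra K Kb] [Algebra kb Kb] [Algebra k Kb]
  [IsScalarTower k K Kb] [IsScalarTower k kb Kb]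

/-- `φ` is the residue map of `Qb` on the residue field below. -/
def IsResidueMap {P : Place k K} (Qb : Place kb Kb) (φ : IsLocalRing.ResidueField P.O →ₐ[k] kb) : Prop :=
  ∀ o : P.O, Qb.1 (algebraMap K Kb (o : K) - algebraMap kb Kb (φ (IsLocalRing.residue P.O o))) < 1

omit [Field K] [Algebra k K] [Algebra K Kb] [IsScalarTower k K Kb] in
theorem const_unique' {Qb : Place kb Kb} {z : Kb} {a b : kb}
    (ha : Qb.1 (z - algebraMap kb Kb a) < 1) (hb : Qb.1 (z - algebraMap kb Kb b) < 1) : a = b := by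
  by_contra hne
  have h : Qb.1 (algebraMap kb Kb (a - b)) < 1 := by
    rw [map_sub, show algebraMap kb Kb a - algebraMap kb Kb b =
      (z - algebraMap kb Kb b) - (z - algebraMap kb Kb a) by ring]
    exact lt_of_le_of_lt (Qb.1.map_sub _ _) (max_lt hb ha)
  rw [val_algebraMap Qb (sub_ne_zero.2 hne)] at h
  exact lt_irrefl _ h

theorem IsResidueMap.unique {P : Place k K} {Qb : Place kb Kb}
    {φ ψ : IsLocalRing.ResidueField P.O →ₐ[k] kb} (hφ : IsResidueMap Qb φ) (hψ : IsResidueMap Qb ψ) : φ = ψ := by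
  ext r
  obtain ⟨o, rfl⟩ := IsLocalRing.residue_surjective r
  exact const_unique' (hφ o) (hψ o)

variable [IsAlgClosed kb]

theorem exists_residueMap (h : IsScalarExt k K kb Kb) (hK : FF k K) {P : Place k K} {Qb : Place kb Kb}
    (hQ : Below Qb P) : ∃ φ : IsLocalRing.ResidueField P.O →ₐ[k] kb, IsResidueMap Qb φ := by
  have hFb := ff h hK
  choose c hc using fun o : P.O => hFb.exists_sub_lt Qb ((hQ (o : K)).2 o.2)
  let ρ : P.O →+* kb :=
    { toFun := c
      map_one' := const_unique' (hc 1) (by simp)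
      map_zero' := const_unique' (hc 0) (by simp)
      map_add' := fun a b => const_unique' (hc (a + b)) (by
        rw [show algebraMap K Kb ((a + b : P.O) : K) - algebraMap kb Kb (c a + c b) =
          (algebraMap K Kb (a : K) - algebraMap kb Kb (c a)) + (algebraMap K Kb (b : K) - algebraMap kb Kb (c b)) by
          push_cast [map_add]; ring]
        exact lt_of_le_of_lt (Qb.1.map_add _ _) (max_lt (hc a) (hc b)))
      map_mul' := fun a b => const_unique' (hc (a * b)) (by
        rw [show algebraMap K Kb ((a * b : P.O) : K) - algebraMap kb Kb (c a * c b) =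
          (algebraMap K Kb (a : K) - algebraMap kb Kb (c a)) * algebraMap K Kb (b : K) +
            algebraMap kb Kb (c a) * (algebraMap K Kb (b : K) - algebraMap kb Kb (c b)) by
          push_cast [map_mul]; ring]
        refine lt_of_le_of_lt (Qb.1.map_add _ _) (max_lt ?_ ?_) <;> rw [map_mul]
        · exact lt_of_le_of_lt (mul_le_of_le_one_right' ((hQ (b : K)).2 b.2)) (hc a)
        · exact lt_of_le_of_lt (mul_le_of_le_one_left' (Qb.2.1 _)) (hc b)) }
  have hker : ∀ o ∈ IsLocalRing.maximalIdeal P.O, ρ o = 0 := fun o ho =>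
    const_unique' (hc o) (by
      rw [map_zero, sub_zero]
      exact (hQ.lt_iff _).2 ((Valuation.mem_maximalIdeal_iff (v := P.1)).1 ho))
  let φ : IsLocalRing.ResidueField P.O →+* kb := Ideal.Quotient.lift _ ρ hker
  refine ⟨{ φ with commutes' := fun a => ?_ }, hc⟩
  refine const_unique' (hc (algebraMap k P.O a)) ?_
  rw [← IsScalarTower.algebraMap_apply k kb Kb,
    show algebraMap K Kb ((algebraMap k P.O a : P.O) : K) = algebraMap k Kb a from
      (IsScalarTower.algebraMap_apply k K Kb a).symm, sub_self, map_zero]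
  exact one_pos

theorem exists_conj [Algebra.IsAlgebraic k kb] (h : IsScalarExt k K kb Kb) {P : Place k K} {Qb : Place kb Kb}
    {e : ℕ} (he : ∀ z : K, Qb.1 (algebraMap K Kb z) = P.1 z ^ e)
    {φ : IsLocalRing.ResidueField P.O →ₐ[k] kb} (hφ : IsResidueMap Qb φ) (s : kb ≃ₐ[k] kb) :
    ∃ Qb' : Place kb Kb, (∀ z : K, Qb'.1 (algebraMap K Kb z) = P.1 z ^ e) ∧
      IsResidueMap Qb' (s.toAlgHom.comp φ) := by
  obtain ⟨σ, hσc, hσK⟩ := exists_hom (kb := kb) (Kb := Kb) h s.symm.toAlgHom
  obtain ⟨τ, hτc, hτK⟩ := exists_hom (kb := kb) (Kb := Kb) h s.toAlgHom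
  have hστ : ∀ z, σ (τ z) = z := fun z => by
    obtain ⟨n, a, x, rfl⟩ := exists_sum h z
    simp only [map_sum, map_mul]
    refine Finset.sum_congr rfl fun i _ => ?_
    rw [hτc, hσc, hτK, hσK]
    simp
  let Qb' : Place kb Kb := ⟨Qb.1.comap σ, fun c => by
      rw [Valuation.comap_apply, hσc]; exact Qb.2.1 _,
    fun v => by obtain ⟨z, hz⟩ := Qb.2.2 v; exact ⟨τ z, by rw [Valuation.comap_apply, hστ, hz]⟩⟩
  refine ⟨Qb', fun z => ?_, fun o => ?_⟩
  · change Qb.1 (σ _) = _; rw [hσK, he]
  · change Qb.1 (σ _) < 1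
    rw [map_sub, hσK, hσc]
    simpa using hφ o

/-- All residue embeddings occur, with one exponent. -/
theorem exists_all_embeddings [Algebra.IsAlgebraic k kb] (h : IsScalarExt k K kb Kb) (hK : FF k K) (P : Place k K)
    [Algebra.IsAlgebraic k (IsLocalRing.ResidueField P.O)] :
    ∃ e : ℕ, 0 < e ∧ ∀ ψ : IsLocalRing.ResidueField P.O →ₐ[k] kb, ∃ Qb : Place kb Kb,
      (∀ z : K, Qb.1 (algebraMap K Kb z) = P.1 z ^ e) ∧ IsResidueMap Qb ψ := by
  obtain ⟨Qb₀, hQ₀⟩ := exists_over h hK P
  obtain ⟨e, he0, he⟩ := exists_pow_of_below hQ₀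
  obtain ⟨φ, hφ⟩ := exists_residueMap h hK hQ₀
  refine ⟨e, he0, fun ψ => ?_⟩
  obtain ⟨s, hs⟩ : ∃ s : kb ≃ₐ[k] kb, s.toAlgHom.comp φ = ψ := by
    let _ : Algebra (IsLocalRing.ResidueField P.O) kb := φ.toRingHom.toAlgebra
    have : IsScalarTower k (IsLocalRing.ResidueField P.O) kb :=
      IsScalarTower.of_algebraMap_eq fun c => (φ.commutes c).symm
    have : Algebra.IsAlgebraic (IsLocalRing.ResidueField P.O) kb :=
      Algebra.IsAlgebraic.tower_top (K := k) (IsLocalRing.ResidueField P.O)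
    obtain ⟨s, hs⟩ := IsAlgClosed.surjective_domRestrict_of_isAlgebraic (K := k) (M := kb) (E := kb) ψ
    refine ⟨AlgEquiv.ofBijective s (Algebra.IsAlgebraic.algHom_bijective s), ?_⟩
    ext r
    exact DFunLike.congr_fun hs r
  obtain ⟨Qb', h1, h2⟩ := exists_conj h he hφ s
  exact ⟨Qb', h1, hs ▸ h2⟩

/-- At a nonsingular place the residue map determines the place. -/
theorem residueMap_injective [Algebra.IsAlgebraic k kb] (h : IsScalarExt k K kb Kb) (hK : FF k K)
    (hg : IsGeometric k K) {P : Place k K}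
    (hns : ∀ (k'' : Type u) [Field k''] [Algebra k k''] [FiniteDimensional k k'']
      (K'' : Type v) [Field K''] [Algebra K K''] [Algebra k'' K''] [Algebra k K'']
      [IsScalarTower k k'' K''] [IsScalarTower k K K''],
      IsScalarExt k K k'' K'' →
      integralClosure (P.O.toSubring.map (algebraMap K K'')) K'' =
        Algebra.adjoin (P.O.toSubring.map (algebraMap K K'')) (Set.range (algebraMap k'' K'')))
    {Q₁ Q₂ : Place kb Kb} (h₁ : Below Q₁ P) (h₂ : Below Q₂ P)
    {φ : IsLocalRing.ResidueField P.O →ₐ[k] kb} (hφ₁ : IsResidueMap Q₁ φ) (hφ₂ : IsResidueMap Q₂ φ) :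
    Q₁ = Q₂ := by
  classical
  by_contra hne
  have hFb := ff h hK
  obtain ⟨w, hw⟩ := exists_approx (finite_fibre h hK P).toFinset
    (fun R => if R = Q₁ then (1 : Kb) else 0) (fun _ => -1)
  have hw' : ∀ R, Below R P → R.1 (w - (if R = Q₁ then 1 else 0)) < 1 := fun R hR =>
    lt_of_le_of_lt (hw R ((finite_fibre h hK P).mem_toFinset.2 hR)) (by rw [← exp_zero, exp_lt_exp]; omega)
  have hw1 : ∀ R, Below R P → R.1 w ≤ 1 := fun R hR => by
    rw [show w = (w - (if R = Q₁ then 1 else 0)) + (if R = Q₁ then 1 else 0) by ring]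
    refine (R.1.map_add _ _).trans (max_le (hw' R hR).le ?_)
    split_ifs <;> simp
  -- a finite field of constants carrying `w`
  obtain ⟨T, hT⟩ := mem_adjoin_of_const h w
  set k'' : IntermediateField k kb := IntermediateField.adjoin k (T : Set kb)
  have : FiniteDimensional k k'' :=
    IntermediateField.finiteDimensional_adjoin fun z _ => Algebra.IsIntegral.isIntegral z
  obtain ⟨K'', _, _, _, _, _, _, h''⟩ := exists_scalarExt hg k''
  obtain ⟨j, hj1, hj2⟩ := exists_hom (kb := kb) (Kb := Kb) h'' k''.val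
  let _ : Algebra K'' Kb := j.toAlgebra
  have : IsScalarTower K K'' Kb := IsScalarTower.of_algebraMap_eq fun x => (hj2 x).symm
  have hle : Algebra.adjoin K (algebraMap kb Kb '' (T : Set kb)) ≤ (IsScalarTower.toAlgHom K K'' Kb).range := by
    refine Algebra.adjoin_le ?_
    rintro _ ⟨c, hc, rfl⟩
    exact ⟨algebraMap k'' K'' ⟨c, IntermediateField.subset_adjoin _ _ hc⟩, hj1 _⟩
  obtain ⟨w₀, hw₀⟩ := hle hT
  change j w₀ = w at hw₀
  -- `w₀` is integral over the valuation ring
  have hint : w₀ ∈ integralClosure (P.O.toSubring.map (algebraMap K K'')) K'' := by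
    set S : Subring Kb := P.O.toSubring.map (algebraMap K Kb) with hS
    have key : w ∈ (⨅ V : {V : ValuationSubring Kb // (S : Set Kb) ⊆ V.toSubring}, V.1.toSubring) := by
      rw [Subring.mem_iInf]
      rintro ⟨V, hV⟩
      by_cases htop : V = ⊤
      · subst htop; exact ValuationSubring.mem_top w
      have hk : ∀ a : k, algebraMap k Kb a ∈ V := fun a =>
        hV ⟨algebraMap k K a, P.2.1 a, (IsScalarTower.algebraMap_apply k K Kb a).symm⟩
      obtain ⟨R, rfl⟩ := hFb.exists_place V (fun c => by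
        obtain ⟨p, hp, hpc⟩ := Algebra.IsIntegral.isIntegral (R := k) c
        let g : k →+* V := (algebraMap k Kb).codRestrict V.toSubring hk
        have hint : IsIntegral V (algebraMap kb Kb c) := by
          refine ⟨p.map g, hp.map g, ?_⟩
          rw [Polynomial.eval₂_map, show (algebraMap V Kb).comp g = (algebraMap kb Kb).comp (algebraMap k kb) from
            RingHom.ext fun a => IsScalarTower.algebraMap_apply k kb Kb a, ← Polynomial.hom_eval₂, hpc, map_zero]
        obtain ⟨y, hy⟩ := (IsIntegrallyClosed.isIntegral_iff (R := V)).mp hint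
        exact hy ▸ y.2) htop
      refine hw1 R ?_
      obtain ⟨P', hP'⟩ := exists_below h hK R
      have : P = P' := eq_of_val_le_one_imp fun x hx => (hP' x).1 (hV ⟨x, hx, rfl⟩)
      exact this ▸ hP'
    rw [iInf_valuationSubring_superset, Subalgebra.mem_toSubring] at key
    have key' : IsIntegral (Subring.closure (S : Set Kb)) w := key
    obtain ⟨p, hp, hpz⟩ := key'
    let g₀ : P.O →+* P.O.toSubring.map (algebraMap K K'') :=
      ((algebraMap K K'').comp P.O.subtype).codRestrict _ fun o => ⟨o, o.2, rfl⟩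
    have hlift : p.map (Subring.closure (S : Set Kb)).subtype ∈
        Polynomial.lifts ((algebraMap K Kb).comp P.O.subtype) := by
      rw [Polynomial.lifts_iff_coeff_lifts]
      intro n
      rw [Polynomial.coeff_map]
      obtain ⟨o, ho, hoe⟩ := (Subring.closure_eq S).le (p.coeff n).2
      exact ⟨⟨o, ho⟩, hoe⟩
    obtain ⟨q, hq, -, hqm⟩ := Polynomial.lifts_and_degree_eq_and_monic hlift (hp.map _)
    refine ⟨q.map g₀, hqm.map _, j.injective ?_⟩
    rw [map_zero, Polynomial.eval₂_map, Polynomial.hom_eval₂, hw₀,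
      show j.comp ((algebraMap (P.O.toSubring.map (algebraMap K K'')) K'').comp g₀) =
        (algebraMap K Kb).comp P.O.subtype from RingHom.ext fun o => hj2 (o : K),
      ← Polynomial.eval_map, hq, Polynomial.eval_map]
    exact hpz
  rw [hns k'' K'' h''] at hint
  -- its residues agree
  suffices key : ∀ z ∈ Algebra.adjoin (P.O.toSubring.map (algebraMap K K'')) (Set.range (algebraMap k'' K'')),
      ∃ c : kb, Q₁.1 (j z - algebraMap kb Kb c) < 1 ∧ Q₂.1 (j z - algebraMap kb Kb c) < 1 by
    obtain ⟨c, hc1, hc2⟩ := key w₀ hint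
    rw [hw₀] at hc1 hc2
    have e1 : c = 1 := const_unique' hc1 (by have := hw' Q₁ h₁; rwa [if_pos rfl, ← map_one (algebraMap kb Kb)] at this)
    have e2 : c = 0 := const_unique' hc2 (by
      have := hw' Q₂ h₂; rwa [if_neg (Ne.symm hne), ← map_zero (algebraMap kb Kb)] at this)
    exact one_ne_zero (e1.symm.trans e2)
  intro z hz
  induction hz using Algebra.adjoin_induction with
  | mem y hy =>
    obtain ⟨a, rfl⟩ := hy
    exact ⟨a, by rw [hj1]; simp, by rw [hj1]; simp⟩
  | algebraMap y =>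
    obtain ⟨o, ho, hoe⟩ := y.2
    refine ⟨φ (IsLocalRing.residue P.O ⟨o, ho⟩), ?_, ?_⟩ <;>
      rw [show algebraMap (P.O.toSubring.map (algebraMap K K'')) K'' y = algebraMap K K'' o from hoe.symm, hj2]
    exacts [hφ₁ ⟨o, ho⟩, hφ₂ ⟨o, ho⟩]
  | add a b _ _ ha hb =>
    obtain ⟨ca, ha1, ha2⟩ := ha; obtain ⟨cb, hb1, hb2⟩ := hb
    refine ⟨ca + cb, ?_, ?_⟩ <;>
      rw [map_add, map_add, show j a + j b - (algebraMap kb Kb ca + algebraMap kb Kb cb) =
        (j a - algebraMap kb Kb ca) + (j b - algebraMap kb Kb cb) by ring]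
    exacts [lt_of_le_of_lt (Q₁.1.map_add _ _) (max_lt ha1 hb1), lt_of_le_of_lt (Q₂.1.map_add _ _) (max_lt ha2 hb2)]
  | mul a b _ _ ha hb =>
    obtain ⟨ca, ha1, ha2⟩ := ha; obtain ⟨cb, hb1, hb2⟩ := hb
    have hgen : ∀ R : Place kb Kb, R.1 (j a - algebraMap kb Kb ca) < 1 → R.1 (j b - algebraMap kb Kb cb) < 1 →
        R.1 (j (a * b) - algebraMap kb Kb (ca * cb)) < 1 := by
      intro R r1 r2
      have hb' : R.1 (j b) ≤ 1 := by
        rw [show j b = (j b - algebraMap kb Kb cb) + algebraMap kb Kb cb by ring]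
        exact (R.1.map_add _ _).trans (max_le r2.le (R.2.1 _))
      rw [map_mul, map_mul, show j a * j b - algebraMap kb Kb ca * algebraMap kb Kb cb =
        (j a - algebraMap kb Kb ca) * j b + algebraMap kb Kb ca * (j b - algebraMap kb Kb cb) by ring]
      refine lt_of_le_of_lt (R.1.map_add _ _) (max_lt ?_ ?_) <;> rw [map_mul]
      · exact lt_of_le_of_lt (mul_le_of_le_one_right' hb') r1
      · exact lt_of_le_of_lt (mul_le_of_le_one_left' (R.2.1 _)) r2
    exact ⟨ca * cb, hgen Q₁ ha1 hb1, hgen Q₂ ha2 hb2⟩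

end Groth.Agent.Const31
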