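import Groth.Agent.Const31.FieldOfDef
import Groth.Agent.FF30.ConstPlaces
import Mathlib.FieldTheory.PurelyInseparable.Basic

/-! The fibre over a place in an algebraic closure of the constants. -/

namespace Groth.Agent.Const31

open FunFld WithZero Groth.Agent.FF30
open scoped TensorProduct IntermediateField

variable {k K kb Kb : Type*} [Field k] [Field K] [Algebra k K] [Field kb]
  [Algebra k kb] [Field Kb] [Algebra K Kb] [Algebra kb Kb] [Algebra k Kb]
  [IsScalarTower k K Kb] [IsScalarTower k kb Kb]

/-- The degree over the line is unchanged. -/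
theorem finrank_adjoin_eq (h : IsScalarExt k K kb Kb) {x : K} (hx : Transcendental k x)
    [FiniteDimensional k⟮x⟯ K] :
    Module.finrank kb⟮algebraMap K Kb x⟯ Kb = Module.finrank k⟮x⟯ K := by
  classical
  set x' := algebraMap K Kb x with hx'
  set F := kb⟮x'⟯
  let v := Module.finBasis k⟮x⟯ K
  set n := Module.finrank k⟮x⟯ K
  let b : ℕ → k⟮x⟯ := fun m => (IntermediateField.AdjoinSimple.gen k x) ^ m
  have hb : LinearIndependent k b := by
    refine LinearIndependent.of_comp k⟮x⟯.val.toLinearMap ?_
    have h1 := (Polynomial.basisMonomials k).linearIndependent.map' (Polynomial.aeval x).toLinearMap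
      (LinearMap.ker_eq_bot.mpr (transcendental_iff_injective.mp hx))
    simpa [b, Function.comp_def, Polynomial.aeval_monomial] using h1
  have hli := linearIndependent_of_K h (linearIndependent_smul hb v.linearIndependent)
  have hpoly : ∀ p : Fin n → Polynomial kb,
      ∑ i, Polynomial.aeval x' (p i) * algebraMap K Kb (v i) = 0 → p = 0 := by
    intro p hp
    funext i
    refine Polynomial.ext fun m => ?_
    set N := Finset.univ.sup fun i => (p i).natDegree
    have hlt : ∀ i, (p i).natDegree < N + 1 := fun i =>
      Nat.lt_succ_of_le (Finset.le_sup (f := fun i => (p i).natDegree) (Finset.mem_univ i))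
    by_cases hm : m < N + 1
    · refine linearIndependent_iff'.mp hli (Finset.range (N + 1) ×ˢ Finset.univ)
        (fun q => (p q.2).coeff q.1) ?_ (m, i) (by simp [hm])
      rw [Finset.sum_product, Finset.sum_comm, ← hp]
      refine Finset.sum_congr rfl fun i _ => ?_
      rw [Polynomial.aeval_eq_sum_range' (hlt i), Finset.sum_mul]
      refine Finset.sum_congr rfl fun m _ => ?_
      have : algebraMap K Kb (b m • v i) = x' ^ m * algebraMap K Kb (v i) := by
        rw [hx', ← map_pow, ← map_mul]
        rfl
      rw [this, smul_mul_assoc]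
    · rw [Pi.zero_apply, Polynomial.coeff_zero]
      exact Polynomial.coeff_eq_zero_of_natDegree_lt (lt_of_lt_of_le (hlt i) (not_lt.1 hm))
  have hLI : LinearIndependent F fun i => algebraMap K Kb (v i) := by
    rw [Fintype.linearIndependent_iff]
    intro c hc i
    choose r s hrs using fun i => (IntermediateField.mem_adjoin_simple_iff (F := kb) (α := x') _).1 (c i).2
    have hs : ∀ i, (c i : Kb) ≠ 0 → Polynomial.aeval x' (s i) ≠ 0 := fun i hne h0 => hne (by rw [hrs i, h0, div_zero])
    -- replace vanishing denominators by one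
    set s' : Fin n → Polynomial kb := fun i => if Polynomial.aeval x' (s i) = 0 then 1 else s i
    set r' : Fin n → Polynomial kb := fun i => if Polynomial.aeval x' (s i) = 0 then 0 else r i
    have hs' : ∀ i, Polynomial.aeval x' (s' i) ≠ 0 := fun i => by
      by_cases h0 : Polynomial.aeval x' (s i) = 0
      · simp [s', h0]
      · simpa [s', h0] using h0
    have hc' : ∀ i, (c i : Kb) * Polynomial.aeval x' (s' i) = Polynomial.aeval x' (r' i) := fun i => by
      by_cases h0 : Polynomial.aeval x' (s i) = 0
      · simp [s', r', h0, hrs i]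
      · simp [s', r', h0, hrs i]
    have h0 := hpoly (fun i => r' i * ∏ l ∈ Finset.univ.erase i, s' l) (by
      have : ∀ i, Polynomial.aeval x' (r' i * ∏ l ∈ Finset.univ.erase i, s' l) * algebraMap K Kb (v i) =
          (∏ l, Polynomial.aeval x' (s' l)) * (c i • algebraMap K Kb (v i)) := fun i => by
        rw [map_mul, ← hc' i, map_prod, ← Finset.mul_prod_erase Finset.univ _ (Finset.mem_univ i)]
        change _ = _ * ((c i : Kb) * algebraMap K Kb (v i))
        ring
      simp only [this, ← Finset.mul_sum, hc, mul_zero])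
    have hr0 : Polynomial.aeval x' (r' i) = 0 := by
      have h1 := congrArg (Polynomial.aeval x') (congrFun h0 i)
      simp only [map_mul, map_prod, Pi.zero_apply, map_zero, mul_eq_zero, Finset.prod_eq_zero_iff] at h1
      rcases h1 with h1 | ⟨l, -, h1⟩
      · exact h1
      · exact absurd h1 (hs' l)
    have := hc' i
    rw [hr0, mul_eq_zero] at this
    exact Subtype.ext (this.resolve_right (hs' i))
  have htop : ⊤ ≤ Submodule.span F (Set.range fun i => algebraMap K Kb (v i)) := by
    intro z hzt
    clear hzt
    obtain ⟨N, a, y, rfl⟩ := exists_sum h z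
    refine Submodule.sum_mem _ fun l _ => ?_
    rw [← v.sum_repr (y l), map_sum, Finset.mul_sum]
    refine Submodule.sum_mem _ fun i _ => ?_
    have : algebraMap kb Kb (a l) * algebraMap K Kb (v.repr (y l) i • v i) =
        ((⟨algebraMap kb Kb (a l), algebraMap_mem _ (a l)⟩ : F) *
          ⟨_, map_mem_adjoin (kb := kb) x (v.repr (y l) i).2⟩) • algebraMap K Kb (v i) := by
      change algebraMap kb Kb (a l) * algebraMap K Kb ((v.repr (y l) i : K) * v i) =
        (algebraMap kb Kb (a l) * algebraMap K Kb (v.repr (y l) i : K)) * algebraMap K Kb (v i)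
      rw [map_mul, mul_assoc]
    rw [this]
    exact Submodule.smul_mem _ _ (Submodule.subset_span ⟨i, rfl⟩)
  rw [Module.finrank_eq_card_basis (Module.Basis.mk hLI htop), Fintype.card_fin]

/-- The fundamental equality over algebraically closed constants. -/
theorem sum_exp_eq_deg [IsAlgClosed kb] (h : IsScalarExt k K kb Kb) (hK : FF k K) (P : Place k K)
    (e : Place kb Kb → ℕ)
    (he : ∀ Qb, Below Qb P → ∀ z : K, Qb.1 (algebraMap K Kb z) = P.1 z ^ e Qb) :
    ∑ Qb ∈ (finite_fibre h hK P).toFinset, e Qb = P.deg := by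
  classical
  obtain ⟨x, hx, hxP⟩ := hK.exists_only_zero P
  have hx0 : x ≠ 0 := fun h => by rw [h, ord_zero] at hx; omega
  have htr : Transcendental k x := transcendental_of_ord_ne_zero P hx.ne'
  have hx0' : algebraMap K Kb x ≠ 0 := by simpa using hx0
  have := hK.finiteDimensional_adjoin htr
  have hFb := ff h hK
  have h1 := hK.deg_zeroDiv htr
  have h2 := hFb.deg_zeroDiv (transcendental h htr)
  rw [finrank_adjoin_eq h htr, ← h1] at h2
  have hA : (div k x ⊔ 0 : Divisor k K) = Finsupp.single P (P.ord x) := by
    refine Finsupp.ext fun R => ?_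
    rw [Finsupp.sup_apply, hK.div_apply, Finsupp.zero_apply]
    by_cases hR : R = P
    · subst hR; rw [Finsupp.single_eq_same]; omega
    · rw [Finsupp.single_eq_of_ne hR]; have := hxP R hR; omega
  set S := (finite_fibre h hK P).toFinset
  have hord : ∀ Qb, Below Qb P → Qb.ord (algebraMap K Kb x) = e Qb * P.ord x := fun Qb hQ => by
    rw [ord_eq_of_val_eq Qb (n := (e Qb : ℤ) * -P.ord x) (by
      rw [he Qb hQ x, val_eq P hx0, ← exp_nsmul]; simp)]
    ring
  have hB : (div kb (algebraMap K Kb x) ⊔ 0 : Divisor kb Kb).support ⊆ S := by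
    intro R hR
    rw [Finsupp.mem_support_iff, Finsupp.sup_apply, hFb.div_apply, Finsupp.zero_apply] at hR
    refine (finite_fibre h hK P).mem_toFinset.2 ?_
    obtain ⟨P', hP'⟩ := exists_below h hK R
    have hlt : P'.1 x < 1 := (hP'.lt_iff x).mp ((val_lt_one_iff R hx0').mpr (by omega))
    rw [val_lt_one_iff P' hx0] at hlt
    obtain rfl : P' = P := by
      by_contra hne
      have := hxP P' hne
      omega
    exact hP'
  rw [deg_eq_sum _ hB, hA, deg_single] at h2
  have h3 : ∑ Qb ∈ S, ((e Qb : ℤ) * P.ord x) = (P.ord x) * (P.deg : ℤ) := by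
    rw [← h2]
    refine Finset.sum_congr rfl fun Qb hQ => ?_
    rw [Finsupp.sup_apply, hFb.div_apply, Finsupp.zero_apply, hord Qb ((finite_fibre h hK P).mem_toFinset.1 hQ),
      hFb.deg_eq_one Qb, Nat.cast_one, mul_one, max_eq_left (by positivity)]
  rw [← Finset.sum_mul, mul_comm (P.ord x)] at h3
  exact_mod_cast mul_right_cancel₀ hx.ne' h3

end Groth.Agent.Const31
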