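import Groth.Agent.Const31.Compositum
import Groth.Agent.FF30.AlgClosed

/-! Fields of definition of places. -/

namespace Groth.Agent.Const31

open FunFld WithZero Groth.Agent.FF30
open scoped TensorProduct IntermediateField

variable {k K kb Kb : Type*} [Field k] [Field K] [Algebra k K] [Field kb]
  [Algebra k kb] [Algebra.IsAlgebraic k kb] [Field Kb] [Algebra K Kb] [Algebra kb Kb] [Algebra k Kb]
  [IsScalarTower k K Kb] [IsScalarTower k kb Kb]

omit [Algebra.IsAlgebraic k kb] in
theorem mem_adjoin_of_const (h : IsScalarExt k K kb Kb) (z : Kb) :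
    ∃ T : Finset kb, z ∈ Algebra.adjoin K (algebraMap kb Kb '' (T : Set kb)) := by
  classical
  obtain ⟨n, a, x, rfl⟩ := exists_sum h z
  refine ⟨Finset.univ.image a, Subalgebra.sum_mem _ fun i _ =>
    mul_mem (Algebra.subset_adjoin ⟨a i, by simp, rfl⟩) (Subalgebra.algebraMap_mem _ _)⟩

omit [Algebra.IsAlgebraic k kb] in
theorem range_coe (k' : IntermediateField k kb) :
    (Set.range fun c : k' => algebraMap kb Kb c) = algebraMap kb Kb '' (k' : Set kb) := by
  ext z
  exact ⟨fun ⟨c, hc⟩ => ⟨c, c.2, hc⟩, fun ⟨c, hc, hz⟩ => ⟨⟨c, hc⟩, hz⟩⟩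

/-- Finitely many places are defined over a finite extension of the constants. -/
theorem exists_field_of_def (h : IsScalarExt k K kb Kb) (hK : FF k K) (S : Finset (Place kb Kb)) :
    ∃ k' : IntermediateField k kb, FiniteDimensional k k' ∧ ∀ Q ∈ S,
      (∃ z ∈ Algebra.adjoin K (algebraMap kb Kb '' (k' : Set kb)), Q.1 z = exp (-1)) ∧
      ∀ Q' : Place kb Kb,
        (∀ z ∈ Algebra.adjoin K (algebraMap kb Kb '' (k' : Set kb)), Q'.1 z ≤ 1 ↔ Q.1 z ≤ 1) → Q' = Q := by
  classical
  choose tu htu0 htu using fun Q : Place kb Kb => exists_uniformizer Q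
  choose Tu hTu using fun Q : Place kb Kb => mem_adjoin_of_const h (tu Q)
  have hsep : ∀ Q Q' : Place kb Kb, ∃ T : Finset kb, Q' ≠ Q →
      ∃ z ∈ Algebra.adjoin K (algebraMap kb Kb '' (T : Set kb)), Q.1 z ≤ 1 ∧ ¬ Q'.1 z ≤ 1 := by
    intro Q Q'
    by_cases hne : Q' = Q
    · exact ⟨∅, fun h => absurd hne h⟩
    obtain ⟨z, hz1, hz2⟩ : ∃ z, Q.1 z ≤ 1 ∧ ¬ Q'.1 z ≤ 1 := by
      by_contra hno
      push Not at hno
      exact hne (eq_of_val_le_one_imp hno).symm
    obtain ⟨T, hT⟩ := mem_adjoin_of_const h z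
    exact ⟨T, fun _ => ⟨z, hT, hz1, hz2⟩⟩
  choose Ts hTs using hsep
  choose Pb hPb using fun Q : Place kb Kb => exists_below h hK Q
  set fib : Place kb Kb → Finset (Place kb Kb) := fun Q => (finite_fibre h hK (Pb Q)).toFinset
  set T : Finset kb := S.biUnion fun Q => Tu Q ∪ (fib Q).biUnion fun Q' => Ts Q Q'
  refine ⟨IntermediateField.adjoin k (T : Set kb), IntermediateField.finiteDimensional_adjoin
    fun z _ => Algebra.IsIntegral.isIntegral z, fun Q hQ => ⟨⟨tu Q, ?_, htu Q⟩, fun Q' hQ' => ?_⟩⟩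
  · refine Algebra.adjoin_mono (Set.image_mono ?_) (hTu Q)
    exact fun c hc => IntermediateField.subset_adjoin _ _
      (Finset.mem_biUnion.2 ⟨Q, hQ, Finset.mem_union_left _ hc⟩)
  · by_contra hne
    have hbel : Below Q' (Pb Q) := fun x =>
      (hQ' _ (Subalgebra.algebraMap_mem _ x)).trans (hPb Q x)
    obtain ⟨z, hz, h1, h2⟩ := hTs Q Q' hne
    refine h2 ((hQ' z (Algebra.adjoin_mono (Set.image_mono ?_) hz)).2 h1)
    exact fun c hc => IntermediateField.subset_adjoin _ _ (Finset.mem_biUnion.2 ⟨Q, hQ,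
      Finset.mem_union_right _ (Finset.mem_biUnion.2 ⟨Q', (finite_fibre h hK _).mem_toFinset.2 hbel, hc⟩)⟩)

omit [Algebra.IsAlgebraic k kb] in
/-- A place with a uniformizer and a single place above has degree at most one. -/
theorem deg_le_one_of_param [IsAlgClosed kb] (h : IsScalarExt k K kb Kb) (hK : IsFunctionField k K)
    {Q : Place kb Kb} {P : Place k K} (hbel : Below Q P) {t : K} (ht : Q.1 (algebraMap K Kb t) = exp (-1))
    (huniq : ∀ Q' : Place kb Kb, Below Q' P → Q' = Q) : P.deg ≤ 1 := by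
  have hF : FF k K := hK.1
  have hFb := ff h hF
  obtain ⟨e, he0, he⟩ := exists_pow_of_below hbel
  have he1 : e = 1 := by
    have h1 := he t
    have ht0 : t ≠ 0 := fun h0 => by rw [h0, map_zero, map_zero] at ht; exact exp_ne_zero ht.symm
    rw [ht, val_eq P ht0, ← exp_nsmul, exp_inj, nsmul_eq_mul] at h1
    have h2 : (e : ℤ) ∣ 1 := ⟨P.ord t, by linarith⟩
    exact_mod_cast Int.eq_one_of_dvd_one (by positivity) h2
  subst he1
  set g := genus k K
  -- the sections of `nP` stay independent
  have key : ∀ n : ℕ, (n : ℤ) * P.deg + 1 - g ≤ (n : ℤ) + ell (0 : Divisor kb Kb) := by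
    intro n
    set D : Divisor k K := Finsupp.single P (n : ℤ)
    set Db : Divisor kb Kb := Finsupp.single Q (n : ℤ)
    have := hF.finite_L D
    have := hFb.finite_L Db
    let b := Module.finBasis k (L D)
    have hmem : ∀ z ∈ L D, algebraMap K Kb z ∈ L Db := by
      intro z hz
      rw [mem_L] at hz ⊢
      intro R
      by_cases hR : R = Q
      · subst hR
        rw [he, pow_one, Finsupp.single_eq_same]
        have := hz P
        rwa [Finsupp.single_eq_same] at this
      · rw [Finsupp.single_eq_of_ne hR, exp_zero]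
        obtain ⟨P', hP'⟩ := exists_below h hF R
        have hne : P' ≠ P := fun hP => hR (huniq R (hP ▸ hP'))
        refine (hP' z).2 ?_
        have := hz P'
        rwa [Finsupp.single_eq_of_ne hne, exp_zero] at this
    have hli : LinearIndependent kb fun i => (⟨algebraMap K Kb (b i : K), hmem _ (b i).2⟩ : L Db) := by
      refine LinearIndependent.of_comp (L Db).subtype ?_
      exact linearIndependent_of_K h (b.linearIndependent.map' (L D).subtype (Submodule.ker_subtype _))
    have h1 : ell D ≤ ell Db := by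
      have := hli.fintype_card_le_finrank
      rwa [Fintype.card_fin] at this
    have h2 : (ell Db : ℤ) - ell (0 : Divisor kb Kb) ≤ n := by
      have := hFb.ell_sub_le (D₁ := 0) (D₂ := Db) (Finsupp.single_nonneg.2 (by positivity))
      rw [deg_zero, hFb.deg_single', sub_zero] at this
      exact this
    have h3 := hF.delta_le_genus D
    rw [delta, deg_single] at h3
    omega
  by_contra hgt
  have h4 := key (g + ell (0 : Divisor kb Kb))
  have : (2 : ℤ) ≤ P.deg := by omega
  push_cast at h4
  nlinarith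

end Groth.Agent.Const31
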