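import Groth.Agent.Const31.Descent
import Groth.Agent.Exp31.Separating

/-! A purely inseparable extension of the constants makes a geometric function field nonsingular. -/

namespace Groth.Agent.Const31

open FunFld WithZero Groth.Agent.FF30
open scoped TensorProduct IntermediateField

universe u v

/-- Coordinates along independent constants. -/
theorem mem_span_of_coord {k K kb Kb : Type*} [Field k] [Field K] [Algebra k K] [Field kb]
    [Algebra k kb] [Field Kb] [Algebra K Kb] [Algebra kb Kb] [Algebra k Kb]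
    [IsScalarTower k K Kb] [IsScalarTower k kb Kb] (h : IsScalarExt k K kb Kb) {n : ℕ} {c : Fin n → kb}
    (hc : LinearIndependent k c) {a : Fin n → K} (B : Set K)
    (hmem : ∑ i, algebraMap kb Kb (c i) * algebraMap K Kb (a i) ∈ Submodule.span kb (algebraMap K Kb '' B))
    (i : Fin n) : a i ∈ Submodule.span k B := by
  classical
  let f : Submodule.span k (Set.range c) →ₗ[k] k := (Finsupp.lapply i).comp hc.repr
  obtain ⟨φ, hφ⟩ := f.exists_extend
  have hφc : ∀ l, φ (c l) = if l = i then 1 else 0 := fun l => by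
    have h1 := LinearMap.congr_fun hφ ⟨c l, Submodule.subset_span ⟨l, rfl⟩⟩
    simp only [LinearMap.comp_apply, Submodule.subtype_apply, f] at h1
    rw [h1, Finsupp.lapply_apply, hc.repr_eq_single l _ rfl, Finsupp.single_apply]
  obtain ⟨N, γ, g, hsum⟩ : ∃ (N : ℕ) (γ : Fin N → kb) (g : Fin N → B),
      ∑ l, γ l • algebraMap K Kb (g l) = ∑ i, algebraMap kb Kb (c i) * algebraMap K Kb (a i) := by
    obtain ⟨N, γ, g, hsum⟩ := Submodule.mem_span_set'.1 hmem
    choose b hb hbg using fun l => (g l).2
    exact ⟨N, γ, fun l => ⟨b l, hb l⟩, by rw [← hsum]; exact Finset.sum_congr rfl fun l _ => by rw [hbg l]⟩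
  have h0 : ∑ i, c i ⊗ₜ[k] a i = ∑ l, γ l ⊗ₜ[k] (g l : K) := h.1 (by
    rw [map_sum, map_sum]
    simp only [Algebra.TensorProduct.productMap_apply_tmul, IsScalarTower.coe_toAlgHom']
    rw [← hsum]
    exact Finset.sum_congr rfl fun l _ => Algebra.smul_def _ _)
  have h1 := congrArg (fun w => TensorProduct.lid k K (φ.rTensor K w)) h0
  simp only [map_sum, LinearMap.rTensor_tmul, TensorProduct.lid_tmul, hφc] at h1
  rw [Finset.sum_eq_single i (fun l _ hl => by rw [if_neg hl, zero_smul]) (by simp), if_pos rfl, one_smul] at h1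
  rw [h1]
  exact Submodule.sum_mem _ fun l _ => Submodule.smul_mem _ _ (Submodule.subset_span (g l).2)

/-- Integrality over `kb[x]` is integrality at the places where `x` is integral. -/
theorem isFinReg_iff {kb Kb : Type*} [Field kb] [Field Kb] [Algebra kb Kb] (hF : FF kb Kb) (x z : Kb) :
    IsFinReg kb x z ↔ ∀ R : Place kb Kb, R.1 x ≤ 1 → R.1 z ≤ 1 := by
  set ev := (Polynomial.aeval x : Polynomial kb →ₐ[kb] Kb).toRingHom
  constructor
  · rintro ⟨p, hp, hpz⟩ R hR
    let g : Polynomial kb →+* R.O := ev.codRestrict R.O.toSubring fun q => val_aeval_le_one R.1 R.2.1 hR q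
    have hint : IsIntegral R.O z := by
      refine ⟨p.map g, hp.map g, ?_⟩
      rw [Polynomial.eval₂_map]
      exact hpz
    obtain ⟨y, hy⟩ := (IsIntegrallyClosed.isIntegral_iff (R := R.O)).mp hint
    exact hy ▸ y.2
  · intro hz
    set S : Subring Kb := ev.range with hS
    have key : z ∈ (⨅ V : {V : ValuationSubring Kb // (S : Set Kb) ⊆ V.toSubring}, V.1.toSubring) := by
      rw [Subring.mem_iInf]
      rintro ⟨V, hV⟩
      by_cases htop : V = ⊤
      · subst htop; exact ValuationSubring.mem_top z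
      obtain ⟨R, rfl⟩ := hF.exists_place V (fun c => hV ⟨Polynomial.C c, Polynomial.aeval_C x c⟩) htop
      exact hz R (hV ⟨Polynomial.X, Polynomial.aeval_X x⟩)
    rw [iInf_valuationSubring_superset, Subalgebra.mem_toSubring] at key
    have key' : IsIntegral (Subring.closure (S : Set Kb)) z := key
    obtain ⟨p, hp, hpz⟩ := key'
    have hlift : p.map (Subring.closure (S : Set Kb)).subtype ∈ Polynomial.lifts ev := by
      rw [Polynomial.lifts_iff_coeff_lifts]
      intro n
      rw [Polynomial.coeff_map]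
      exact (Subring.closure_eq S).le (p.coeff n).2
    obtain ⟨q, hq, -, hqm⟩ := Polynomial.lifts_and_degree_eq_and_monic hlift (hp.map _)
    refine ⟨q, hqm, ?_⟩
    rw [← Polynomial.eval_map, hq, Polynomial.eval_map]
    exact hpz

section Main

variable {k : Type u} {K : Type v} [Field k] [Field K] [Algebra k K]
  {kb : Type u} [Field kb] [Algebra k kb] [IsAlgClosed kb] [Algebra.IsAlgebraic k kb]
  {Kb : Type v} [Field Kb] [Algebra K Kb] [Algebra kb Kb] [Algebra k Kb]
  [IsScalarTower k K Kb] [IsScalarTower k kb Kb]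

/-- Over a field of definition of the integral functions of the chart of `x`, every place of that chart
is nonsingular. -/
theorem nonsingular_chart (hb : IsScalarExt k K kb Kb) (hK : IsFunctionField k K) (hg : IsGeometric k K)
    {x : K} (hx : Transcendental k x) {T : Finset kb}
    (hT : ∀ z : Kb, IsFinReg kb (algebraMap K Kb x) z → z ∈ Submodule.span kb
      {b : Kb | b ∈ Algebra.adjoin K (algebraMap kb Kb '' (T : Set kb)) ∧
        IsFinReg kb (algebraMap K Kb x) b})
    (k' : IntermediateField k kb) [FiniteDimensional k k'] (hTk : (T : Set kb) ⊆ (k' : Set kb))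
    {K' : Type v} [Field K'] [Algebra K K'] [Algebra k' K'] [Algebra k K'] [IsScalarTower k k' K']
    [IsScalarTower k K K'] (h : IsScalarExt k K k' K')
    (Q : Place k' K') (hQx : Q.1 (algebraMap K K' x) ≤ 1)
    (k'' : Type u) [Field k''] [Algebra k' k''] [FiniteDimensional k' k'']
    (K'' : Type v) [Field K''] [Algebra K' K''] [Algebra k'' K''] [Algebra k' K'']
    [IsScalarTower k' k'' K''] [IsScalarTower k' K' K''] (h' : IsScalarExt k' K' k'' K'') :
    integralClosure (Q.O.toSubring.map (algebraMap K' K'')) K'' =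
      Algebra.adjoin (Q.O.toSubring.map (algebraMap K' K'')) (Set.range (algebraMap k'' K'')) := by
  classical
  set S := Q.O.toSubring.map (algebraMap K' K'') with hS
  refine le_antisymm (fun z hz => ?_) (Algebra.adjoin_le ?_)
  swap
  · rintro _ ⟨c, rfl⟩
    obtain ⟨p, hp, hpc⟩ := Algebra.IsIntegral.isIntegral (R := k') c
    let g : k' →+* S := ((algebraMap K' K'').comp (algebraMap k' K')).codRestrict S fun a =>
      ⟨algebraMap k' K' a, Q.2.1 a, rfl⟩
    refine ⟨p.map g, hp.map g, ?_⟩
    rw [Polynomial.eval₂_map, show (algebraMap S K'').comp g = (algebraMap k'' K'').comp (algebraMap k' k'') from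
      RingHom.ext fun a => (IsScalarTower.algebraMap_apply k' K' K'' a).symm.trans
        (IsScalarTower.algebraMap_apply k' k'' K'' a), ← Polynomial.hom_eval₂, hpc, map_zero]
  -- the maps to the algebraic closure
  obtain ⟨j, hj1, hj2⟩ := exists_hom (kb := kb) (Kb := Kb) h k'.val
  let _ : Algebra K' Kb := j.toAlgebra
  have : IsScalarTower K K' Kb := IsScalarTower.of_algebraMap_eq fun x => (hj2 x).symm
  have : IsScalarTower k' kb Kb := IsScalarTower.of_algebraMap_eq fun _ => rfl
  have : IsScalarTower k' K' Kb := IsScalarTower.of_algebraMap_eq fun a => (hj1 a).symm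
  have ht : IsScalarExt k' K' kb Kb := scalarExt_tower h hb
  obtain ⟨hK', -⟩ := scalar_extension h hK hg
  have hF' : FF k' K' := hK'.1
  let ι : k'' →ₐ[k'] kb := IsAlgClosed.lift
  obtain ⟨j', hj1', hj2'⟩ := exists_hom (kb := kb) (Kb := Kb) h' ι
  -- coordinates
  let c := Module.finBasis k' k''
  obtain ⟨N, γ, y, hzy⟩ := exists_sum h' z
  set a : Fin (Module.finrank k' k'') → K' := fun i => ∑ l, c.repr (γ l) i • y l
  have hza : z = ∑ i, algebraMap k'' K'' (c i) * algebraMap K' K'' (a i) := by
    rw [hzy]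
    simp only [a, map_sum, Finset.mul_sum]
    rw [Finset.sum_comm]
    refine Finset.sum_congr rfl fun l _ => ?_
    conv_lhs => rw [← c.sum_repr (γ l), map_sum, Finset.sum_mul]
    refine Finset.sum_congr rfl fun i _ => ?_
    rw [Algebra.smul_def, Algebra.smul_def, map_mul, map_mul, ← IsScalarTower.algebraMap_apply k' k'' K'',
      ← IsScalarTower.algebraMap_apply k' K' K'']
    ring
  -- it is enough to bound the coordinates
  suffices hgoal : ∀ i, Q.1 (a i) ≤ 1 by
    rw [hza]
    refine Subalgebra.sum_mem _ fun i _ => mul_mem (Algebra.subset_adjoin ⟨c i, rfl⟩) ?_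
    exact Subalgebra.algebraMap_mem _ (⟨algebraMap K' K'' (a i), a i, hgoal i, rfl⟩ : S)
  set x' := algebraMap K K' x with hx'
  have hxKb : algebraMap K' Kb x' = algebraMap K Kb x := hj2 x
  have hxtr : Transcendental k' x' := transcendental h hx
  obtain ⟨Pinf, hPinf⟩ := hF'.exists_place_neg hxtr
  have hQinf : Q ≠ Pinf := fun e => by
    rw [← e] at hPinf
    rw [val_le_one_iff] at hQx
    omega
  set bad : Finset (Place k' K') :=
    ((Finset.univ.biUnion fun i => (hF'.finite_support_ord (a i)).toFinset) ∪ {Q}).erase Pinf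
  obtain ⟨s, hs, hs'⟩ := strong_approximation' hK' Pinf bad (Finset.notMem_erase _ _)
    (fun R => if R = Q then 1 else 0) (fun R => if R = Q then 1 else ∑ i, ((R.ord (a i)).natAbs : ℤ))
  have hQbad : Q ∈ bad := Finset.mem_erase.2 ⟨hQinf, Finset.mem_union_right _ (Finset.mem_singleton_self Q)⟩
  have hsQ : Q.1 s = 1 := by
    have h1 := hs Q hQbad
    simp only [if_pos] at h1
    rw [show s = (s - 1) + 1 by ring, Q.1.map_add_eq_of_lt_right (by
      rw [map_one, h1, ← exp_zero, exp_lt_exp]; omega), map_one]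
  have hsa : ∀ R : Place k' K', R.1 x' ≤ 1 → R ≠ Q → ∀ i, R.1 (s * a i) ≤ 1 := by
    intro R hR hRQ i
    have hRinf : R ≠ Pinf := fun e => by
      rw [← e] at hPinf
      rw [val_le_one_iff] at hR
      omega
    rw [map_mul]
    by_cases hb : R ∈ bad
    · have h1 := hs R hb
      simp only [if_neg hRQ, sub_zero] at h1
      rcases eq_or_ne (a i) 0 with h0 | h0
      · rw [h0, map_zero, mul_zero]; exact zero_le
      rw [h1, val_eq R h0, ← exp_add, ← exp_zero, exp_le_exp]
      have h2 : ((R.ord (a i)).natAbs : ℤ) ≤ ∑ l, ((R.ord (a l)).natAbs : ℤ) :=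
        Finset.single_le_sum (f := fun l => ((R.ord (a l)).natAbs : ℤ)) (fun l _ => by positivity) (Finset.mem_univ i)
      omega
    · have h1 : R.ord (a i) = 0 := by
        by_contra hne
        exact hb (Finset.mem_erase.2 ⟨hRinf, Finset.mem_union_left _
          (Finset.mem_biUnion.2 ⟨i, Finset.mem_univ _, (hF'.finite_support_ord (a i)).mem_toFinset.2 hne⟩)⟩)
      exact mul_le_one' (hs' R hRinf hb) ((val_le_one_iff R).2 h1.ge)
  -- `s z` is integral
  have hreg : IsFinReg kb (algebraMap K Kb x) (∑ i, algebraMap kb Kb (ι (c i)) * algebraMap K' Kb (s * a i)) := by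
    rw [isFinReg_iff (ff hb hK.1)]
    intro R hR
    obtain ⟨R', hR'⟩ := exists_below ht hF' R
    have hRx : R'.1 x' ≤ 1 := (hR' x').1 (by rw [hxKb]; exact hR)
    by_cases hRQ : R' = Q
    · subst hRQ
      have heq : ∑ i, algebraMap kb Kb (ι (c i)) * algebraMap K' Kb (s * a i) =
          algebraMap K' Kb s * j' z := by
        rw [hza, map_sum, Finset.mul_sum]
        refine Finset.sum_congr rfl fun i _ => ?_
        rw [map_mul j', hj1', hj2', map_mul]
        ring
      rw [heq, map_mul]
      refine mul_le_one' ((hR' s).2 hsQ.le) ?_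
      obtain ⟨p, hp, hpz⟩ := hz
      let g : S →+* R.O := (j'.comp (algebraMap S K'')).codRestrict R.O.toSubring fun w => by
        obtain ⟨b, hb, hw⟩ := w.2
        change R.1 (j' (w : K'')) ≤ 1
        rw [← hw, hj2']
        exact (hR' b).2 hb
      have hint : IsIntegral R.O (j' z) := by
        refine ⟨p.map g, hp.map g, ?_⟩
        rw [Polynomial.eval₂_map, show (algebraMap R.O Kb).comp g = j'.comp (algebraMap S K'') from rfl,
          ← Polynomial.hom_eval₂, hpz, map_zero]
      obtain ⟨w, hw⟩ := (IsIntegrallyClosed.isIntegral_iff (R := R.O)).mp hint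
      exact hw ▸ w.2
    · refine R.1.map_sum_le fun i _ => ?_
      rw [map_mul]
      exact mul_le_one' (R.2.1 _) ((hR' _).2 (hsa R' hRx hRQ i))
  -- hence so are the coordinates
  have hmem := Submodule.span_mono (R := kb) (t := algebraMap K' Kb '' {b : K' | Q.1 b ≤ 1}) ?_ (hT _ hreg)
  · intro i
    have h1 := mem_span_of_coord ht (c := fun i => ι (c i))
      (c.linearIndependent.map' ι.toLinearMap (LinearMap.ker_eq_bot.2 ι.injective)) _ hmem i
    have h2 : Q.1 (s * a i) ≤ 1 := by
      refine Submodule.span_induction (p := fun w _ => Q.1 w ≤ 1) (fun w hw => hw) (by simp)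
        (fun u w _ _ hu hw => (Q.1.map_add u w).trans (max_le hu hw)) (fun r w _ hw => ?_) h1
      rw [Algebra.smul_def, map_mul]
      exact mul_le_one' (Q.2.1 r) hw
    rwa [map_mul, hsQ, one_mul] at h2
  · rintro b ⟨hb1, hb2⟩
    have hle : Algebra.adjoin K (algebraMap kb Kb '' (T : Set kb)) ≤ (IsScalarTower.toAlgHom K K' Kb).range := by
      refine Algebra.adjoin_le ?_
      rintro _ ⟨e, he, rfl⟩
      exact ⟨algebraMap k' K' ⟨e, hTk he⟩, hj1 ⟨e, hTk he⟩⟩
    obtain ⟨w, rfl⟩ := hle hb1
    refine ⟨w, ?_, rfl⟩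
    obtain ⟨Qb, hQb⟩ := exists_over ht hF' Q
    refine (hQb w).1 ((isFinReg_iff (ff hb hK.1) _ _).1 hb2 Qb ?_)
    rw [← hxKb]
    exact (hQb x').2 hQx

end Main

/-- A finite purely inseparable extension of the constants gives a nonsingular field. -/
theorem exists_nonsingular {k : Type u} {K : Type v} [Field k] [Field K] [Algebra k K]
    (hK : IsFunctionField k K) (hg : IsGeometric k K) :
    ∃ (k' : IntermediateField k (AlgebraicClosure k)), FiniteDimensional k k' ∧ IsPurelyInseparable k k' ∧
      ∀ (K' : Type v) [Field K'] [Algebra K K'] [Algebra k' K'] [Algebra k K']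
        [IsScalarTower k k' K'] [IsScalarTower k K K'], IsScalarExt k K k' K' →
        ∀ (Q : Place k' K') (k'' : Type u) [Field k''] [Algebra k' k''] [FiniteDimensional k' k'']
          (K'' : Type v) [Field K''] [Algebra K' K''] [Algebra k'' K''] [Algebra k' K'']
          [IsScalarTower k' k'' K''] [IsScalarTower k' K' K''], IsScalarExt k' K' k'' K'' →
          integralClosure (Q.O.toSubring.map (algebraMap K' K'')) K'' =
            Algebra.adjoin (Q.O.toSubring.map (algebraMap K' K'')) (Set.range (algebraMap k'' K'')) := by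
  classical
  obtain ⟨Kb, _, _, _, _, _, _, hb⟩ := exists_scalarExt hg (AlgebraicClosure k)
  obtain ⟨x, hx, hfin, hsep⟩ := Exp31.exists_separating hK hg
  have hx' : Transcendental k x⁻¹ := fun h => hx (by simpa using h.inv)
  have hadj : k⟮x⁻¹⟯ = k⟮x⟯ := by
    refine le_antisymm (IntermediateField.adjoin_simple_le_iff.mpr
      (inv_mem (IntermediateField.mem_adjoin_simple_self k x))) (IntermediateField.adjoin_simple_le_iff.mpr ?_)
    simpa using inv_mem (IntermediateField.mem_adjoin_simple_self k x⁻¹)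
  obtain ⟨T₁, hT₁, hz₁⟩ := exists_def_field hb hx
  have hfs : FiniteDimensional k⟮x⁻¹⟯ K ∧ Algebra.IsSeparable k⟮x⁻¹⟯ K := by rw [hadj]; exact ⟨hfin, hsep⟩
  obtain ⟨_, _⟩ := hfs
  obtain ⟨T₂, hT₂, hz₂⟩ := exists_def_field hb hx'
  set k' : IntermediateField k (AlgebraicClosure k) :=
    IntermediateField.adjoin k ((T₁ ∪ T₂ : Finset (AlgebraicClosure k)) : Set (AlgebraicClosure k))
  have hfin' : FiniteDimensional k k' :=
    IntermediateField.finiteDimensional_adjoin fun z _ => Algebra.IsIntegral.isIntegral z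
  refine ⟨k', hfin', (le_perfectClosure_iff k (AlgebraicClosure k) k').1 ?_, ?_⟩
  · rw [IntermediateField.adjoin_le_iff, Finset.coe_union]
    exact Set.union_subset hT₁ hT₂
  intro K' _ _ _ _ _ _ h Q k'' _ _ _ K'' _ _ _ _ _ _ h'
  by_cases hQ : Q.1 (algebraMap K K' x) ≤ 1
  · refine nonsingular_chart hb hK hg hx hz₁ k' ?_ h Q hQ k'' K'' h'
    exact fun t ht => IntermediateField.subset_adjoin _ _ (Finset.mem_union_left _ ht)
  · refine nonsingular_chart hb hK hg hx' hz₂ k' ?_ h Q ?_ k'' K'' h'
    · exact fun t ht => IntermediateField.subset_adjoin _ _ (Finset.mem_union_right _ ht)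
    · rw [map_inv₀, map_inv₀]
      exact inv_le_one_of_one_le₀ (le_of_not_ge hQ)

end Groth.Agent.Const31
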